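import Mathlib

/-!
# Divisors of `(r p + 1) (p - 1)` congruent to `± 1` modulo `p`

If `r` is not of the form `(h u p + u² + u + h) / (u + 1)`, the only divisors congruent to `1` are
`1` and `r p + 1`, and the only ones congruent to `-1` are `p - 1` and `(r p + 1) (p - 1)`.
-/

namespace Cfsg.Agent.Lib.FirstPower.PerfectFew.Formula

/-- No intermediate divisor congruent to one. -/
def NoFactor (p r : ℕ) : Prop := ∀ u, 0 < u → u < r → ¬ u * p + 1 ∣ (r * p + 1) * (p - 1)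

theorem exists_h {p r u : ℕ} (hp : 1 ≤ p) (hu : u < r)
    (h : u * p + 1 ∣ (r * p + 1) * (p - 1)) :
    ∃ k, 0 < k ∧ r * (u + 1) = k * u * p + u ^ 2 + u + k := by
  obtain ⟨c, hc⟩ := h
  obtain ⟨w, rfl⟩ : ∃ w, r = u + w := ⟨r - u, by omega⟩
  have h' : (((u : ℤ) + w) * p + 1) * ((p : ℤ) - 1) = ((u : ℤ) * p + 1) * c := by
    have := congrArg (fun n : ℕ => (n : ℤ)) hc
    push_cast [Nat.cast_sub hp] at this
    linarith
  have hdvd : ((u * p + 1 : ℕ) : ℤ) ∣ ((w * (u + 1) : ℕ) : ℤ) := by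
    refine ⟨(u : ℤ) ^ 2 * c - (((u : ℤ) + w) * ((u : ℤ) * p - u) - w), ?_⟩
    push_cast
    linear_combination (u : ℤ) ^ 2 * h'
  obtain ⟨k, hk⟩ := Int.natCast_dvd_natCast.mp hdvd
  refine ⟨k, ?_, ?_⟩
  · refine Nat.pos_of_ne_zero fun hk0 => ?_
    rw [hk0, mul_zero, mul_eq_zero] at hk
    omega
  · rw [add_mul, hk]; ring

theorem noFactor_of_not_formula {p r : ℕ} (hp : 1 ≤ p)
    (h : ∀ k u : ℕ, 0 < k → 0 < u → r * (u + 1) ≠ k * u * p + u ^ 2 + u + k) : NoFactor p r := by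
  intro u hu hur hd
  obtain ⟨k, hk, he⟩ := exists_h hp hur hd
  exact h k u hk hu he

theorem noFactor_of_bound {p r : ℕ} (hp : 1 ≤ p) (h : 2 * r < p + 3) : NoFactor p r := by
  refine noFactor_of_not_formula hp fun k u hk hu he => ?_
  have h1 : u * p ≤ k * u * p := by
    rw [mul_assoc]; exact Nat.le_mul_of_pos_left _ hk
  nlinarith

theorem NoFactor.of_dvd {p r r' : ℕ} (h : NoFactor p r) (hle : r' ≤ r)
    (hdvd : r' * p + 1 ∣ r * p + 1) : NoFactor p r' := fun u hu hur hd =>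
  h u hu (lt_of_lt_of_le hur hle) (hd.trans (mul_dvd_mul_right hdvd _))

theorem dvd_plus {p r D : ℕ} [Fact p.Prime] (hF : NoFactor p r) (hD : (D : ZMod p) = 1)
    (hdvd : D ∣ (r * p + 1) * (p - 1)) : D = 1 ∨ D = r * p + 1 := by
  have hp : p.Prime := Fact.out
  have hp2 := hp.two_le
  have hpos : 0 < (r * p + 1) * (p - 1) := Nat.mul_pos (by omega) (by omega)
  have hDpos : 0 < D := Nat.pos_of_dvd_of_pos hdvd hpos
  obtain ⟨u, hu⟩ : p ∣ D - 1 := by
    rw [← ZMod.natCast_eq_zero_iff, Nat.cast_sub hDpos, hD, Nat.cast_one, sub_self]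
  have hDu : D = u * p + 1 := by rw [mul_comm]; omega
  rcases Nat.eq_zero_or_pos u with rfl | hu0
  · left; rw [hDu]; simp
  rcases lt_trichotomy u r with hlt | rfl | hgt
  · exact absurd (hDu ▸ hdvd) (hF u hu0 hlt)
  · exact Or.inr hDu
  exfalso
  obtain ⟨S, hS⟩ := hdvd
  have hS1 : (S : ZMod p) = -1 := by
    have := congrArg (fun n : ℕ => (n : ZMod p)) hS
    push_cast [Nat.cast_sub hp.one_le, hD, ZMod.natCast_self] at this
    simpa using this.symm
  have hSp : p ∣ S + 1 := by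
    rw [← ZMod.natCast_eq_zero_iff]; push_cast; rw [hS1]; ring
  have hS2 : p - 1 ≤ S := by have := Nat.le_of_dvd (by omega) hSp; omega
  have hlt' : r * p + 1 < D := by
    rw [hDu]; have := Nat.mul_lt_mul_of_pos_right hgt hp.pos; omega
  have h1 : (r * p + 1) * (p - 1) < D * (p - 1) := Nat.mul_lt_mul_of_pos_right hlt' (by omega)
  have h2 : D * (p - 1) ≤ D * S := Nat.mul_le_mul_left D hS2
  omega

theorem dvd_minus {p r D : ℕ} [Fact p.Prime] (hF : NoFactor p r) (hD : (D : ZMod p) = -1)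
    (hdvd : D ∣ (r * p + 1) * (p - 1)) : D = p - 1 ∨ D = (r * p + 1) * (p - 1) := by
  have hp : p.Prime := Fact.out
  obtain ⟨S, hS⟩ := hdvd
  have hS1 : (S : ZMod p) = 1 := by
    have := congrArg (fun n : ℕ => (n : ZMod p)) hS
    push_cast [Nat.cast_sub hp.one_le, hD, ZMod.natCast_self] at this
    simpa using this.symm
  rcases dvd_plus hF hS1 ⟨D, by rw [hS, mul_comm]⟩ with h | h
  · right; rw [hS, h, mul_one]
  · left
    rw [h] at hS
    exact (Nat.eq_of_mul_eq_mul_left (by omega : 0 < r * p + 1) (hS.trans (mul_comm _ _))).symm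

end Cfsg.Agent.Lib.FirstPower.PerfectFew.Formula
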