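import Cfsg.Agent.Lib.Characters.Linear
import Cfsg.Agent.Lib.Characters.Diag
import Mathlib.LinearAlgebra.Determinant

/-!
# Restrictions to cyclic subgroups
-/

namespace Cfsg.Agent.Lib.FirstPower.PerfectFew.Restrict

open Module Cfsg.Agent.Lib.Characters.Basic Cfsg.Agent.Lib.Characters.Diag

universe u

variable {G : Type u} [Group G] [Finite G]

/-- The eigenvalues as powers of a primitive root, and the values on powers. -/
theorem exists_exponents {χ : G → ℂ} (hχ : Cfsg.IsCharacter G χ) {v : G} {n : ℕ} (hn : n ≠ 0)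
    (hv : v ^ n = 1) {ζ : ℂ} (hζ : IsPrimitiveRoot ζ n) :
    ∃ (ι : Type) (_ : Fintype ι) (a : ι → ℕ) (d : ℕ) (ρ : Representation ℂ G (Fin d → ℂ)),
      ρ.character = χ ∧ (∀ i, a i < n) ∧ (∀ k, χ (v ^ k) = ∑ i, ζ ^ (a i * k)) ∧
      LinearMap.det (ρ v) = ∏ i, ζ ^ a i := by
  classical
  obtain ⟨d, ρ, rfl⟩ := hχ
  obtain ⟨ι, hι, b, z, hz, -, -⟩ := exists_eigenbasis ρ v hn hv
  have : NeZero n := ⟨hn⟩
  choose a ha ha' using fun i => hζ.eq_pow_of_pow_eq_one (hz i).2
  refine ⟨ι, hι, a, d, ρ, rfl, ha, fun k => ?_, ?_⟩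
  · have hk : ∀ i, (ρ (v ^ k)) (b i) = z i ^ k • b i := by
      intro i
      rw [map_pow]
      induction k with
      | zero => simp
      | succ k ih =>
        rw [pow_succ, Module.End.mul_apply, (hz i).1, map_smul, ih, smul_smul, pow_succ']
    rw [show ρ.character (v ^ k) = ∑ i, z i ^ k from trace_eq_sum_eigenvalues b _ _ hk]
    exact Finset.sum_congr rfl fun i _ => by rw [pow_mul, ha']
  · rw [← LinearMap.det_toMatrix b, show LinearMap.toMatrix b b (ρ v) = Matrix.diagonal z from ?_,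
      Matrix.det_diagonal]
    · exact Finset.prod_congr rfl fun i _ => (ha' i).symm
    · refine Matrix.ext fun i j => ?_
      rw [LinearMap.toMatrix_apply, (hz j).1, map_smul, Finsupp.smul_apply, Basis.repr_self,
        smul_eq_mul, Finsupp.single_apply, Matrix.diagonal_apply]
      by_cases h : i = j
      · subst h; simp
      · simp [h, Ne.symm h]

/-- The multiplicity of an eigenvalue. -/
theorem card_mul_eq {n : ℕ} {ζ : ℂ} (hζ : IsPrimitiveRoot ζ n) {ι : Type} [Fintype ι] {a : ι → ℕ}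
    (ha : ∀ i, a i < n) (l : ℕ) (hl : l < n) :
    ∑ k ∈ Finset.range n, (∑ i, ζ ^ (a i * k)) * ζ ^ ((n - l) * k) =
      (n : ℂ) * (Finset.univ.filter fun i => a i = l).card := by
  classical
  simp only [Finset.sum_mul]
  rw [Finset.sum_comm, mul_comm (n : ℂ), ← nsmul_eq_mul, ← Finset.sum_const, Finset.sum_filter]
  refine Finset.sum_congr rfl fun i _ => ?_
  simp only [← pow_add, ← add_mul]
  simp only [pow_mul]
  split_ifs with h
  · rw [h, show l + (n - l) = n by omega, hζ.pow_eq_one]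
    simp
  · have hne : ζ ^ (a i + (n - l)) ≠ 1 := by
      intro h1
      rw [hζ.pow_eq_one_iff_dvd] at h1
      have := ha i
      obtain ⟨w, hw⟩ := h1
      rcases Nat.lt_or_ge w 2 with hw2 | hw2
      · interval_cases w <;> omega
      · have := Nat.mul_le_mul_left n hw2
        omega
    rw [geom_sum_eq hne, ← pow_mul, mul_comm, pow_mul, hζ.pow_eq_one, one_pow, sub_self,
      zero_div]

/-- An element of even order `n` whose powers other than `1` and the involution are zeros of a
character, the involution having value `ε = ±1`: then `n = 2`. -/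
theorem two_of_zeros {χ : G → ℂ} (hχ : Cfsg.IsCharacter G χ) {v : G} {h : ℕ}
    (hv : v ^ (2 * h) = 1) (hh : 0 < h) {ε : ℤ} (hε : ε = 1 ∨ ε = -1)
    (hz : ∀ k < 2 * h, k ≠ 0 → k ≠ h → χ (v ^ k) = 0) (hi : χ (v ^ h) = ε) {d : ℕ}
    (hd : χ 1 = d) : h = 1 := by
  classical
  have hζ := Complex.isPrimitiveRoot_exp (2 * h) (by omega)
  set ζ := Complex.exp (2 * Real.pi * Complex.I / ((2 * h : ℕ) : ℂ))
  obtain ⟨ι, hι, a, -, -, -, ha, hval, -⟩ := exists_exponents hχ (by omega) hv hζ
  have key : ∀ l, l < 2 * h → ∃ m : ℕ, (d : ℂ) + (ε : ℂ) * (ζ ^ h) ^ (2 * h - l) =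
      ((2 * h : ℕ) : ℂ) * m := by
    intro l hl
    refine ⟨(Finset.univ.filter fun i => a i = l).card, ?_⟩
    rw [← card_mul_eq hζ ha l hl, Finset.sum_congr rfl fun k _ => by rw [← hval k],
      Finset.sum_eq_add_of_mem 0 h (Finset.mem_range.mpr (by omega))
        (Finset.mem_range.mpr (by omega)) hh.ne]
    · rw [pow_zero, hd, mul_zero, pow_zero, mul_one, hi, ← pow_mul, mul_comm h]
    · intro k hk hk'
      rw [hz k (Finset.mem_range.mp hk) hk'.1 hk'.2, zero_mul]
  have hm1 : ζ ^ h = -1 := (hζ.pow (by omega) (mul_comm 2 h)).eq_neg_one_of_two_right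
  obtain ⟨m₀, h0⟩ := key 0 (by omega)
  obtain ⟨m₁, h1⟩ := key 1 (by omega)
  rw [hm1, Nat.sub_zero, Even.neg_one_pow ⟨h, two_mul h⟩, mul_one] at h0
  rw [hm1, Odd.neg_one_pow ⟨h - 1, by omega⟩, mul_neg, mul_one] at h1
  have h0' : ((d : ℤ) + ε) = 2 * h * m₀ := by exact_mod_cast h0
  have h1' : ((d : ℤ) - ε) = 2 * h * m₁ := by
    have : (((d : ℤ) - ε : ℤ) : ℂ) = ((2 * h * m₁ : ℤ) : ℂ) := by
      push_cast at h1 ⊢; linear_combination h1
    exact_mod_cast this
  have : (h : ℤ) * ((m₀ : ℤ) - m₁) = ε := by linarith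
  have hd' : (h : ℤ) ∣ 1 := by
    rcases hε with rfl | rfl
    · exact ⟨_, this.symm⟩
    · exact ⟨-((m₀ : ℤ) - m₁), by linarith⟩
  have := Int.le_of_dvd one_pos hd'
  omega

/-- In a perfect group: an element of even order `e` whose powers other than `1` are zeros of a
character of degree `t e` has `t` even. -/
theorem even_of_perfect (hperf : commutator G = ⊤) {χ : G → ℂ} (hχ : Cfsg.IsCharacter G χ)
    {v : G} {e t : ℕ} (hv : v ^ e = 1) (he0 : 0 < e) (heven : Even e)
    (hz : ∀ k < e, k ≠ 0 → χ (v ^ k) = 0) (hd : χ 1 = ((t * e : ℕ) : ℂ)) : Even t := by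
  classical
  obtain ⟨f, hf⟩ := heven
  have hζ := Complex.isPrimitiveRoot_exp e he0.ne'
  set ζ := Complex.exp (2 * Real.pi * Complex.I / (e : ℂ))
  obtain ⟨ι, hι, a, d, ρ, hρ, ha, hval, hdet⟩ := exists_exponents hχ he0.ne' hv hζ
  have hmult : ∀ l ∈ Finset.range e, (Finset.univ.filter fun i => a i = l).card = t := by
    intro l hl
    have h := card_mul_eq hζ ha l (Finset.mem_range.mp hl)
    rw [Finset.sum_congr rfl fun k _ => by rw [← hval k],
      Finset.sum_eq_single 0 (fun k hk hk0 => by rw [hz k (Finset.mem_range.mp hk) hk0, zero_mul])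
        (fun h => absurd (Finset.mem_range.mpr he0) h), pow_zero, hd, mul_zero, pow_zero,
      mul_one] at h
    have h' : t * e = e * (Finset.univ.filter fun i => a i = l).card := by exact_mod_cast h
    rw [mul_comm] at h'
    exact (Nat.eq_of_mul_eq_mul_left he0 h').symm
  have hprod : ∏ i, ζ ^ a i = (ζ ^ (∑ l ∈ Finset.range e, l)) ^ t := by
    rw [← Finset.prod_fiberwise_of_maps_to
      (g := a) (t := Finset.range e) (fun i _ => Finset.mem_range.mpr (ha i)),
      ← Finset.prod_pow_eq_pow_sum, ← Finset.prod_pow]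
    refine Finset.prod_congr rfl fun l hl => ?_
    rw [Finset.prod_congr rfl fun i hi => by rw [(Finset.mem_filter.mp hi).2], Finset.prod_const,
      hmult l hl]
  have hsum : ∑ l ∈ Finset.range e, l = f * (e - 1) := by
    have := Finset.sum_range_id_mul_two e
    rw [show e * (e - 1) = 2 * (f * (e - 1)) by rw [hf]; ring] at this
    omega
  have hm1 : ζ ^ (∑ l ∈ Finset.range e, l) = -1 := by
    rw [hsum, pow_mul, (hζ.pow he0 (by omega : e = f * 2)).eq_neg_one_of_two_right,
      Odd.neg_one_pow ⟨f - 1, by omega⟩]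
  rw [hprod, hm1] at hdet
  have hone : LinearMap.det (ρ v) = 1 := by
    let F : G →* ℂˣ := MonoidHom.toHomUnits (LinearMap.det.comp ρ)
    have hker : commutator G ≤ F.ker := Abelianization.commutator_subset_ker F
    exact congrArg Units.val (hker (hperf ▸ Subgroup.mem_top v) : F v = 1)
  rw [hone] at hdet
  rcases Nat.even_or_odd t with h | h
  · exact h
  · rw [h.neg_one_pow] at hdet
    norm_num at hdet

end Cfsg.Agent.Lib.FirstPower.PerfectFew.Restrict
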