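import Cfsg.Agent.Lib.FirstPower.PerfectFew.FixPoints
import Cfsg.Agent.Lib.FirstPower.PerfectFew.Formula
import Cfsg.Agent.Lib.FirstPower.PerfectFew.Restrict
import Cfsg.Agent.Lib.SmallGroups.Sylow

/-!
# The two configurations of a perfect group with few Sylow subgroups of prime order
-/

namespace Cfsg.Agent.Lib.FirstPower.PerfectFew

open Periods Average Consequences Cfsg.Agent.Lib.Characters.Basic Cfsg.Agent.Lib.Induced.Basic
open Family (pow_eq_one_of_order)
open MulAction
open scoped ComplexConjugate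

universe u

variable {p : ℕ} [Fact p.Prime] {G : Type u} [Group G] [Fintype G] {x : G} {hx : orderOf x = p}
variable {P : Sylow p G} (c : Comp hx)
variable (hC : Subgroup.centralizer ({x} : Set G) = Subgroup.zpowers x)
variable (hP : (P : Subgroup G) = Subgroup.zpowers x)

/-- The expansion of an induced function. -/
theorem Comp.theta_expansion [Fintype (Cfsg.IrrCharacter G)] {m : ℕ → Cfsg.IrrCharacter G → ℕ}
    (hm : ∀ j (χ : Cfsg.IrrCharacter G), Cfsg.classInner (c.theta hC j) (χ : G → ℂ) = (m j χ : ℂ)) (j : ℕ) :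
    c.theta hC j = ∑ χ, (m j χ : ℂ) • (χ : G → ℂ) := by
  rw [Characters.Complete.classFunction_eq_sum (c.theta_classFun hC j)]
  exact Finset.sum_congr rfl fun χ _ => by rw [hm]

/-- Summing over all the linear characters. -/
theorem Comp.sum_inner_theta {F : G → ℂ} (hF : Cfsg.IsClassFunction G F) :
    (p : ℂ) * ∑ j ∈ Finset.range c.e, Cfsg.classInner (c.theta hC j) F =
      ∑ z : ZMod p, conj (F (x ^ z.val)) := by
  have he0 : (c.e : ℂ) ≠ 0 := Nat.cast_ne_zero.mpr c.e_pos.ne'
  refine mul_left_cancel₀ he0 ?_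
  calc (c.e : ℂ) * ((p : ℂ) * ∑ j ∈ Finset.range c.e, Cfsg.classInner (c.theta hC j) F)
      = ∑ j ∈ Finset.range c.e,
          ((c.e * p : ℕ) : ℂ) * Cfsg.classInner (c.theta hC j) F := by
        rw [Finset.mul_sum, Finset.mul_sum]
        exact Finset.sum_congr rfl fun j _ => by push_cast; ring
    _ = _ := by
        rw [Finset.sum_congr rfl fun j _ => c.inner_theta hC hF j, Finset.sum_add_distrib,
          Finset.sum_const, Finset.card_range, nsmul_eq_mul, add_eq_left, ← Finset.mul_sum,
          Finset.sum_comm, Finset.sum_eq_zero, mul_zero]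
        intro k hk
        obtain ⟨hk0, hk1⟩ := Finset.mem_erase.mp hk
        rw [← Finset.mul_sum, Finset.sum_congr rfl fun j _ => by rw [mul_comm j k, pow_mul],
          geom_sum_eq, pow_right_comm, c.ω_spec.pow_eq_one, one_pow, sub_self,
          zero_div, mul_zero]
        exact c.ω_spec.pow_ne_one_of_pos_of_lt hk0 (Finset.mem_range.mp hk1)

/-- What is known in the configuration with `t = r + 1`. -/
structure Config (hx : orderOf x = p) (c : Comp hx) where
  r : ℕ
  t : ℕ
  a : ℕ
  χ : Cfsg.IrrCharacter G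
  ε : ℤ
  hn : Nat.card (Sylow p G) = r * p + 1
  hr : 1 ≤ r
  ht : t = r + 1
  hteven : Even t
  hp : p = t * c.e + 1
  he : c.e = 2 + a * t
  hε : ε = 1 ∨ ε = -1
  hfull : ∀ k, ¬ c.e ∣ k → Nat.card (fixedBy (Sylow p G) (c.g ^ k)) = r + 1
  hd : Cfsg.charDegree (χ : G → ℂ) = r * c.e + 1
  hfree : ∀ y : G, ¬ p ∣ orderOf y → (∀ Q : Sylow p G, y • Q ≠ Q) → (χ : G → ℂ) y = 0
  hinv : (χ : G → ℂ) (c.g ^ (c.e / 2)) = ε
  hirr : ∀ m : c.M, (m : G) ∉ Subgroup.zpowers c.g →
    ∀ j : ℕ, j * c.kappa m ≡ j [MOD c.e] → c.e ∣ 2 * j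

set_option maxHeartbeats 4000000 in
include hC hP in
/-- The two configurations. -/
theorem Comp.cases (hperf : commutator G = ⊤) (hnc : 1 < Nat.card (Sylow p G))
    (hF : ∀ r, Nat.card (Sylow p G) = r * p + 1 → Formula.NoFactor p r) (he : 2 ≤ c.e) :
    (p = 2 * c.e + 1 ∧ Nat.card (Sylow p G) = p + 1) ∨ Nonempty (Config hx c) := by
  classical
  have hp : p.Prime := Fact.out
  have hxp := pow_eq_one_of_order hx
  have := Fintype.ofFinite (Cfsg.IrrCharacter G)
  have h2 := not_sq_dvd hx hC
  set e := c.e with hedef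
  obtain ⟨r, hn⟩ : ∃ r, Nat.card (Sylow p G) = r * p + 1 := by
    refine ⟨Nat.card (Sylow p G) / p, ?_⟩
    have h : Nat.card (Sylow p G) % p = 1 := SmallGroups.Sylow.card_sylow_mod (p := p) (G := G)
    conv_lhs => rw [← Nat.mod_add_div (Nat.card (Sylow p G)) p, h]
    ring
  have hr1 : 1 ≤ r := by
    rcases Nat.eq_zero_or_pos r with rfl | h
    · rw [zero_mul] at hn; omega
    · exact h
  have hF' := hF r hn
  have := Fintype.ofFinite (autE (pow_eq_one_of_order hx))
  have := Fintype.ofFinite ((ZMod p)ˣ ⧸ autE (pow_eq_one_of_order hx))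
  set t := Fintype.card ((ZMod p)ˣ ⧸ autE (pow_eq_one_of_order hx)) with htdef
  have hte : t * e = p - 1 := by
    rw [htdef, hedef, Comp.e, Nat.card_eq_fintype_card]
    exact card_mul_card _
  have hpe : p = t * e + 1 := by have := hp.one_le; omega
  have ht1 : 1 ≤ t := Fintype.card_pos
  have hep : e < p := by nlinarith
  have hVP := isVPart_bot hx hC
  have hcardG : Nat.card G = (r * p + 1) * (e * p) := by
    rw [card_eq hx h2 hVP, hn, Subgroup.card_bot, mul_one]
  obtain ⟨R, Y, a, δ, hYinj, hYR, hδ, h1R, ha1, hRcard, hR, hY, hoth, hYreg, hrel⟩ :=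
    Family.exists_family hx h2 hVP
  have hRv : ∀ χ ∈ R, ∀ w : (ZMod p)ˣ, (χ : G → ℂ) (x ^ (w : ZMod p).val) = a χ := fun χ hχ w => by
    simpa using (hR χ hχ).2 w 1 (one_mem _)
  have hYv : ∀ q, ∀ w : (ZMod p)ˣ, (Y q : G → ℂ) (x ^ (w : ZMod p).val) =
      δ * eta _ (q * QuotientGroup.mk w) := fun q w => by
    simpa using hY q w 1 (one_mem _)
  have hov : ∀ χ, χ ∉ R → (∀ q, Y q ≠ χ) → ∀ w : (ZMod p)ˣ,
      (χ : G → ℂ) (x ^ (w : ZMod p).val) = 0 := fun χ h h' w => by
    have := hoth χ h h' w
    rwa [aval_bot] at this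
  -- degrees
  have h1reg : ¬ p ∣ orderOf (1 : G) := by rw [orderOf_one, Nat.dvd_one]; exact hp.ne_one
  set d := Cfsg.charDegree (Y 1 : G → ℂ) with hd
  have hYdeg : ∀ q, Cfsg.charDegree (Y q : G → ℂ) = d := fun q => by
    have h := hYreg q 1 h1reg
    rw [DegreeBounds.Basic.charDegree_irr, DegreeBounds.Basic.charDegree_irr] at h
    exact_mod_cast h
  have hone : Cfsg.charDegree ((oneChar G : Cfsg.IrrCharacter G) : G → ℂ) = 1 := by
    have := DegreeBounds.Basic.charDegree_irr (oneChar G)
    rw [oneChar_apply] at this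
    exact_mod_cast this.symm
  have hdeg : ∀ χ ∈ R, χ ≠ oneChar G →
      (a χ = 1 ∧ Cfsg.charDegree (χ : G → ℂ) = r * p + 1) ∨
      (a χ = -1 ∧ Cfsg.charDegree (χ : G → ℂ) + 1 = p) := by
    intro χ hχ hne
    set n := Cfsg.charDegree (χ : G → ℂ) with hnd
    have hn0 : 0 < n := DegreeBounds.Basic.charDegree_pos χ
    have hn1 : n ≠ 1 := fun h => hne (charDegree_eq_one_of_perfect hperf χ h)
    have hmod := degree_of_const hxp χ (hRv χ hχ)
    obtain ⟨s, hs⟩ : n ∣ e * (r * p + 1) := by
      have hcop : n.Coprime p := by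
        rw [Nat.coprime_comm, hp.coprime_iff_not_dvd, ← ZMod.natCast_eq_zero_iff, hmod]
        rcases (hR χ hχ).1 with h | h <;> rw [h] <;> simp
      refine hcop.dvd_of_dvd_mul_left (m := p) ?_
      rw [show p * (e * (r * p + 1)) = Nat.card G by rw [hcardG]; ring]
      exact DegreeBounds.Basic.charDegree_dvd χ
    have hdvd : n ∣ (r * p + 1) * (p - 1) := by
      rw [← hte]
      exact (Dvd.intro s hs.symm).trans ⟨t, by ring⟩
    rcases (hR χ hχ).1 with haχ | haχ
    · refine Or.inl ⟨haχ, ?_⟩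
      rw [haχ, Int.cast_one] at hmod
      exact (Formula.dvd_plus hF' hmod hdvd).resolve_left hn1
    · refine Or.inr ⟨haχ, ?_⟩
      rw [haχ, Int.cast_neg, Int.cast_one] at hmod
      rcases Formula.dvd_minus hF' hmod hdvd with h | h
      · have := hp.two_le; omega
      exfalso
      have hlt : ∑ ψ ∈ ({oneChar G, χ} : Finset _), Cfsg.charDegree (ψ : G → ℂ) ^ 2 ≤ Nat.card G := by
        rw [← DegreeBounds.Basic.sum_charDegree_sq]
        exact Finset.sum_le_sum_of_subset (Finset.subset_univ _)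
      rw [Finset.sum_pair hne.symm, hone, h, hcardG, sq] at hlt
      have h3 : e * p ≤ (p - 1) * p := Nat.mul_le_mul_right p
        (hte ▸ Nat.le_mul_of_pos_left e (by omega))
      have h4 : p + 1 ≤ r * p + 1 := by have := Nat.le_mul_of_pos_left p hr1; omega
      have h5 : p ≤ (r * p + 1) * (p - 1) := by
        have := Nat.mul_le_mul h4 (show 1 ≤ p - 1 by omega)
        omega
      have h6 := Nat.mul_le_mul (Nat.mul_le_mul_left (r * p + 1) h3) (le_refl 1)
      nlinarith [Nat.mul_le_mul_left ((r * p + 1) * (p - 1)) h5]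
  -- multiplicities
  choose m hm using fun j χ => c.exists_mult hC j χ
  have hexp := c.theta_expansion hC hm
  have hval : ∀ j (y : G), c.theta hC j y = ∑ χ, (m j χ : ℂ) * (χ : G → ℂ) y := fun j y => by
    rw [hexp j, Finset.sum_apply]
    exact Finset.sum_congr rfl fun χ _ => rfl
  have hinner : ∀ j i, Cfsg.classInner (c.theta hC j) (c.theta hC i) =
      ∑ χ, (m j χ : ℂ) * m i χ := by
    intro j i
    conv_lhs => rw [hexp i, classInner_sum_right]
    refine Finset.sum_congr rfl fun χ _ => ?_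
    rw [classInner_smul_right, hm, map_natCast, mul_comm]
  have hdegsum : ∀ j, ∑ χ, m j χ * Cfsg.charDegree (χ : G → ℂ) = r * p + 1 := by
    intro j
    have h := hval j 1
    rw [c.theta_one hC hP, hn] at h
    simp only [DegreeBounds.Basic.charDegree_irr] at h
    exact_mod_cast h.symm
  -- the values at `x`
  have hsplit : ∀ f : Cfsg.IrrCharacter G → ℂ, (∀ χ, χ ∉ R → (∀ q, Y q ≠ χ) → f χ = 0) →
      ∑ χ, f χ = ∑ χ ∈ R, f χ + ∑ q, f (Y q) := by
    intro f hf
    rw [← Finset.sum_image (f := f) hYinj.injOn, ← Finset.sum_union ?_]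
    · refine (Finset.sum_subset (Finset.subset_univ _) fun χ _ hχ => ?_).symm
      simp only [Finset.mem_union, Finset.mem_image, Finset.mem_univ, true_and, not_or,
        not_exists] at hχ
      exact hf χ hχ.1 hχ.2
    · rw [Finset.disjoint_left]
      intro χ hχ hY'
      obtain ⟨q, -, hq⟩ := Finset.mem_image.mp hY'
      exact hYR q (hq ▸ hχ)
  have hatx : ∀ j (w : (ZMod p)ˣ), (1 : ℂ) = ∑ χ ∈ R, (m j χ : ℂ) * a χ +
      ∑ q, (m j (Y q) : ℂ) * (δ * eta _ (q * QuotientGroup.mk w)) := by
    intro j w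
    rw [← c.theta_pow_x hC hP j w, hval, hsplit _ (fun χ h h' => by rw [hov χ h h', mul_zero])]
    congr 1
    · exact Finset.sum_congr rfl fun χ hχ => by rw [hRv χ hχ]
    · exact Finset.sum_congr rfl fun q _ => by rw [hYv]
  -- fixed-space dimensions
  have hc0 : ∀ χ : Cfsg.IrrCharacter G, (p : ℂ) * ∑ j ∈ Finset.range e, (m j χ : ℂ) =
      conj ((χ : G → ℂ) 1) + ∑ w : (ZMod p)ˣ, conj ((χ : G → ℂ) (x ^ (w : ZMod p).val)) := by
    intro χ
    rw [← Finset.sum_congr rfl fun j _ => hm j χ, c.sum_inner_theta hC (isClassFunction_irr χ),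
      sum_zmod_split, ZMod.val_zero, pow_zero]
  have hsumw : ∀ (i : ℤ), ∑ _w : (ZMod p)ˣ, (i : ℂ) = ((((p : ℤ) - 1) * i : ℤ) : ℂ) := fun i => by
    rw [Finset.sum_const, Finset.card_univ, ZMod.card_units, nsmul_eq_mul]
    push_cast [Nat.cast_sub hp.one_le]; rfl
  have hc0R : ∀ χ ∈ R, ((p : ℤ) * ∑ j ∈ Finset.range e, (m j χ : ℤ)) =
      Cfsg.charDegree (χ : G → ℂ) + ((p : ℤ) - 1) * a χ := by
    intro χ hχ
    have h := hc0 χ
    rw [Finset.sum_congr (s₁ := (Finset.univ : Finset (ZMod p)ˣ)) rfl fun w _ => by rw [hRv χ hχ w, map_intCast], hsumw,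
      DegreeBounds.Basic.charDegree_irr, map_natCast] at h
    have h' : (((p : ℤ) * ∑ j ∈ Finset.range e, (m j χ : ℤ) : ℤ) : ℂ) =
        (((Cfsg.charDegree (χ : G → ℂ) : ℤ) + ((p : ℤ) - 1) * a χ : ℤ) : ℂ) := by
      push_cast at h ⊢; linear_combination h
    exact_mod_cast h'
  have hetasum : ∀ q, ∑ w : (ZMod p)ˣ, eta (autE hxp) (q * QuotientGroup.mk w) = -(e : ℂ) := by
    intro q
    rw [← Finset.sum_fiberwise Finset.univ (fun w : (ZMod p)ˣ =>
      (QuotientGroup.mk w : (ZMod p)ˣ ⧸ autE hxp))]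
    have hf : ∀ r' : (ZMod p)ˣ ⧸ autE hxp,
        ∑ w ∈ Finset.univ.filter (fun w : (ZMod p)ˣ =>
          (QuotientGroup.mk w : (ZMod p)ˣ ⧸ autE hxp) = r'), eta _ (q * QuotientGroup.mk w) =
        (Fintype.card (autE hxp) : ℂ) * eta _ (q * r') := by
      intro r'
      rw [Finset.sum_congr rfl fun w hw => by rw [(Finset.mem_filter.mp hw).2],
        Finset.sum_const, card_fiber, nsmul_eq_mul]
    rw [Finset.sum_congr rfl fun r' _ => hf r', ← Finset.mul_sum,
      show ∑ r', eta (autE hxp) (q * r') = -1 by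
        rw [← sum_eta_shift (autE hxp) q]
        exact Finset.sum_congr rfl fun r' _ => by rw [mul_comm q],
      hedef, Comp.e, Nat.card_eq_fintype_card]
    ring
  have hc0Y : ∀ q, ((p : ℤ) * ∑ j ∈ Finset.range e, (m j (Y q) : ℤ)) = d - δ * e := by
    intro q
    have h := hc0 (Y q)
    rw [← map_sum, Finset.sum_congr rfl (fun w _ => hYv q w), ← Finset.mul_sum, hetasum,
      DegreeBounds.Basic.charDegree_irr, hYdeg, map_natCast, map_mul, map_intCast, map_neg,
      map_natCast] at h
    have h' : (((p : ℤ) * ∑ j ∈ Finset.range e, (m j (Y q) : ℤ) : ℤ) : ℂ) =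
        (((d : ℤ) - δ * e : ℤ) : ℂ) := by push_cast at h ⊢; linear_combination h
    exact_mod_cast h'
  -- the trivial character
  have hm1 : ∀ j < e, m j (oneChar G) = if j = 0 then 1 else 0 := by
    intro j hj
    have h := c.inner_theta hC (isClassFunction_irr (oneChar G)) j
    rw [hm] at h
    simp only [oneChar_apply, map_one, Finset.sum_const, Finset.card_univ, ZMod.card, nsmul_eq_mul,
      mul_one, one_mul] at h
    have h' : ((e * p : ℕ) : ℂ) * m j (oneChar G) =
        (p : ℂ) * ∑ k ∈ Finset.range e, c.ω ^ (j * k) := by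
      rw [h, ← Finset.add_sum_erase _ _ (Finset.mem_range.mpr c.e_pos), mul_zero, pow_zero]
      ring
    split_ifs with hj0
    · subst hj0
      simp only [zero_mul, pow_zero, Finset.sum_const, Finset.card_range, nsmul_eq_mul,
        mul_one] at h'
      have : e * p * m 0 (oneChar G) = p * e := by exact_mod_cast h'
      rw [mul_comm p e] at this
      exact (Nat.mul_eq_left (Nat.mul_pos c.e_pos hp.pos).ne').mp this
    · simp only [pow_mul] at h'
      rw [geom_sum_eq (c.ω_spec.pow_ne_one_of_pos_of_lt hj0 hj), ← pow_mul, mul_comm j, pow_mul,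
        c.ω_spec.pow_eq_one, one_pow, sub_self, zero_div, mul_zero, mul_eq_zero] at h'
      rcases h' with h' | h'
      · exact absurd (Nat.cast_eq_zero.mp h') (Nat.mul_pos c.e_pos hp.pos).ne'
      · exact Nat.cast_eq_zero.mp h'
  -- characters of degree `p - 1` never occur
  have hminus : ∀ χ ∈ R, a χ = -1 → χ ≠ oneChar G → ∀ j < e, m j χ = 0 := by
    intro χ hχ haχ hne j hj
    rcases hdeg χ hχ hne with ⟨h, -⟩ | ⟨-, h⟩
    · omega
    have hs := hc0R χ hχ
    rw [haχ] at hs
    have : (p : ℤ) * ∑ j ∈ Finset.range e, (m j χ : ℤ) = 0 := by rw [hs]; omega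
    have h0 : ∑ j ∈ Finset.range e, m j χ = 0 := by
      have := (mul_eq_zero.mp this).resolve_left (by exact_mod_cast hp.ne_zero)
      exact_mod_cast this
    exact Finset.sum_eq_zero_iff.mp h0 j (Finset.mem_range.mpr hj)
  -- a full constituent
  have hfullc : ∀ j (χ : Cfsg.IrrCharacter G),
      Cfsg.charDegree (χ : G → ℂ) = r * p + 1 → m j χ ≠ 0 →
      ∀ ψ : Cfsg.IrrCharacter G, m j ψ = if ψ = χ then 1 else 0 := by
    intro j χ hχd hne ψ
    have h := hdegsum j
    rw [← Finset.add_sum_erase _ _ (Finset.mem_univ χ), hχd] at h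
    have h1 : m j χ = 1 := by
      by_contra hc
      have := Nat.mul_le_mul_right (r * p + 1) (show 2 ≤ m j χ by omega)
      omega
    split_ifs with hψ
    · rw [hψ, h1]
    · rw [h1, one_mul] at h
      have h0 : ∑ ψ ∈ Finset.univ.erase χ, m j ψ * Cfsg.charDegree (ψ : G → ℂ) = 0 := by omega
      have := Finset.sum_eq_zero_iff.mp h0 ψ (Finset.mem_erase.mpr ⟨hψ, Finset.mem_univ _⟩)
      rcases Nat.mul_eq_zero.mp this with h' | h'
      · exact h'
      · exact absurd h' (DegreeBounds.Basic.charDegree_pos ψ).ne'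
  -- the constituents `Y q`
  have hmY : ∀ j (k : ℤ), (∀ w : (ZMod p)ˣ,
      ∑ q, (m j (Y q) : ℂ) * eta _ (q * QuotientGroup.mk w) = k) →
      ∀ q, (m j (Y q) : ℤ) = -k := by
    intro j k hk q
    have h := Family.inversion (autE hxp) (fun q => (m j (Y q) : ℤ)) q
    have hrep : ∀ r' : (ZMod p)ˣ ⧸ autE hxp,
        ∑ q, (((m j (Y q) : ℤ)) : ℂ) * eta (autE hxp) (q * r') = k := by
      intro r'
      obtain ⟨w, rfl⟩ := QuotientGroup.mk_surjective r'
      rw [← hk w]
      exact Finset.sum_congr rfl fun q _ => by push_cast; rfl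
    simp only [hrep, ← Finset.mul_sum, Finset.sum_sub_distrib, Finset.sum_const, Finset.card_univ,
      nsmul_eq_mul, ← map_sum] at h
    rw [show ∑ r', eta (autE hxp) (q * r') = -1 by
      rw [← sum_eta_shift (autE hxp) q]
      exact Finset.sum_congr rfl fun r' _ => by rw [mul_comm q], map_neg, map_one] at h
    have hte' : (t : ℂ) * (Fintype.card (autE hxp) : ℂ) = (p : ℂ) - 1 := by
      rw [htdef, ← Nat.cast_mul, card_mul_card, Nat.cast_sub hp.one_le, Nat.cast_one]
    have h' : (p : ℂ) * ((m j (Y q) : ℤ) : ℂ) = (p : ℂ) * (((-k : ℤ)) : ℂ) := by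
      rw [← h, ← htdef]; push_cast; linear_combination (-(k : ℂ)) * hte'
    exact_mod_cast mul_left_cancel₀ (Nat.cast_ne_zero.mpr hp.ne_zero) h'
  have hδ2 : δ * δ = 1 := by rcases hδ with rfl | rfl <;> rfl
  have hδY : ∀ j (k : ℤ), (∑ χ ∈ R, (m j χ : ℂ) * a χ) = (1 - k : ℤ) → ∀ q,
      (m j (Y q) : ℤ) = -(δ * k) := by
    intro j k hk q
    refine hmY j (δ * k) (fun w => ?_) q
    have h := hatx j w
    rw [hk] at h
    simp only [mul_left_comm _ (δ : ℂ), ← Finset.mul_sum] at h
    push_cast at h ⊢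
    have hδ2' : (δ : ℂ) * δ = 1 := by exact_mod_cast hδ2
    calc ∑ q, (m j (Y q) : ℂ) * eta _ (q * QuotientGroup.mk w)
        = (δ : ℂ) * ((δ : ℂ) * ∑ q, (m j (Y q) : ℂ) * eta _ (q * QuotientGroup.mk w)) := by
          rw [← mul_assoc, hδ2', one_mul]
      _ = (δ : ℂ) * k := by congr 1; linear_combination -h
  have hzero : (∀ χ ∈ R, a χ = 1 → χ ≠ oneChar G → m 0 χ = 0) ∧ ∀ q, m 0 (Y q) = 0 := by
    have hA : ∀ χ ∈ R, a χ = 1 → χ ≠ oneChar G → m 0 χ = 0 := by
      intro χ hχ haχ hne
      by_contra h0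
      rcases hdeg χ hχ hne with ⟨-, h⟩ | ⟨h, -⟩
      · have := hfullc 0 χ h h0 (oneChar G)
        rw [hm1 0 c.e_pos, if_pos rfl, if_neg (Ne.symm hne)] at this
        omega
      · omega
    refine ⟨hA, fun q => ?_⟩
    have := hδY 0 0 (by
      rw [Finset.sum_eq_single (oneChar G)]
      · rw [hm1 0 c.e_pos, if_pos rfl, ha1]; norm_num
      · intro χ hχ hne
        rcases (hR χ hχ).1 with h | h
        · rw [hA χ hχ h hne]; simp
        · rw [hminus χ hχ h hne 0 c.e_pos]; simp
      · exact fun h => absurd h1R h) q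
    simpa using this
  have htype : ∀ j < e, j ≠ 0 →
      (∃ χ ∈ R, χ ≠ oneChar G ∧ a χ = 1 ∧ ∀ ψ, m j ψ = if ψ = χ then 1 else 0) ∨
      (δ = -1 ∧ (∀ χ ∈ R, m j χ = 0) ∧ ∀ q, m j (Y q) = 1) := by
    intro j hj hj0
    by_cases hex : ∃ χ ∈ R, χ ≠ oneChar G ∧ a χ = 1 ∧ m j χ ≠ 0
    · obtain ⟨χ, hχ, hne, haχ, hmχ⟩ := hex
      rcases hdeg χ hχ hne with ⟨-, h⟩ | ⟨h, -⟩
      · exact Or.inl ⟨χ, hχ, hne, haχ, hfullc j χ h hmχ⟩
      · omega
    · push Not at hex
      have hR0 : ∀ χ ∈ R, m j χ = 0 := by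
        intro χ hχ
        by_cases hne : χ = oneChar G
        · rw [hne, hm1 j hj, if_neg hj0]
        · rcases (hR χ hχ).1 with h | h
          · exact hex χ hχ hne h
          · exact hminus χ hχ h hne j hj
      have hq := hδY j 1 (by rw [Finset.sum_eq_zero fun χ hχ => by rw [hR0 χ hχ]; simp]; simp)
      refine Or.inr ⟨?_, hR0, fun q => ?_⟩
      · rcases hδ with rfl | rfl
        · have := hq 1; omega
        · rfl
      · rcases hδ with rfl | rfl
        · have := hq q; omega
        · have := hq q; omega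
  -- counting
  set Rp := R.filter fun χ => χ ≠ oneChar G ∧ a χ = 1 with hRp
  set Rm := R.filter fun χ => χ ≠ oneChar G ∧ a χ = -1 with hRm
  have hdisj : Disjoint Rp Rm := by
    rw [Finset.disjoint_filter]; rintro χ - ⟨-, h⟩ ⟨-, h'⟩; omega
  have hunion : Rp ∪ Rm = R.erase (oneChar G) := by
    ext χ
    simp only [hRp, hRm, Finset.mem_union, Finset.mem_filter, Finset.mem_erase]
    constructor
    · rintro (⟨h, h', -⟩ | ⟨h, h', -⟩) <;> exact ⟨h', h⟩
    · rintro ⟨h, h'⟩
      rcases (hR χ h').1 with ha | ha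
      · exact Or.inl ⟨h', h, ha⟩
      · exact Or.inr ⟨h', h, ha⟩
  have hxy : Rp.card + Rm.card + 1 = e := by
    rw [← Finset.card_union_of_disjoint hdisj, hunion, Finset.card_erase_add_one h1R, hRcard]
  have hDid : δ * d = 1 + (Rp.card : ℤ) * (r * p + 1) - (Rm.card : ℤ) * (p - 1) := by
    have h := hrel 1 h1reg
    simp only [DegreeBounds.Basic.charDegree_irr] at h
    rw [← Finset.add_sum_erase _ _ h1R, ha1, hone, ← hunion, Finset.sum_union hdisj,
      Finset.sum_congr (s₁ := Rp) rfl (g := fun _ => ((r * p + 1 : ℕ) : ℂ)) (fun χ hχ => by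
        obtain ⟨hχR, hne, haχ⟩ := Finset.mem_filter.mp hχ
        rcases hdeg χ hχR hne with ⟨-, h⟩ | ⟨h, -⟩
        · rw [haχ, h]; simp
        · omega),
      Finset.sum_congr (s₁ := Rm) rfl (g := fun _ => -((p - 1 : ℕ) : ℂ)) (fun χ hχ => by
        obtain ⟨hχR, hne, haχ⟩ := Finset.mem_filter.mp hχ
        rcases hdeg χ hχR hne with ⟨h, -⟩ | ⟨-, h⟩
        · omega
        · rw [haχ, show p - 1 = Cfsg.charDegree (χ : G → ℂ) by omega]; simp),
      Finset.sum_const, Finset.sum_const, nsmul_eq_mul, nsmul_eq_mul, ← hd,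
      Nat.cast_sub hp.one_le] at h
    have h' : ((δ * d : ℤ) : ℂ) =
        ((1 + (Rp.card : ℤ) * (r * p + 1) - (Rm.card : ℤ) * (p - 1) : ℤ) : ℂ) := by
      push_cast at h ⊢; linear_combination -h
    exact_mod_cast h'
  have hδpos : δ = 1 → d = e := by
    intro hδ1
    have h0 : ∀ j ∈ Finset.range e, m j (Y 1) = 0 := by
      intro j hj
      rcases eq_or_ne j 0 with rfl | hj0
      · exact hzero.2 1
      · rcases htype j (Finset.mem_range.mp hj) hj0 with ⟨χ, hχ, -, -, hall⟩ | ⟨h, -⟩
        · rw [hall, if_neg (fun (h : Y 1 = χ) => hYR 1 (h ▸ hχ))]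
        · omega
    have hs := hc0Y 1
    rw [Finset.sum_eq_zero (fun j hj => by rw [h0 j hj, Nat.cast_zero]), hδ1] at hs
    omega
  have hy1 : 1 ≤ Rm.card := by
    by_contra hc
    have hy0 : Rm.card = 0 := by omega
    rw [hy0] at hDid hxy
    have hpos : (0 : ℤ) < 1 + (Rp.card : ℤ) * (r * p + 1) :=
      add_pos_of_pos_of_nonneg one_pos (mul_nonneg (Int.natCast_nonneg _) (by nlinarith))
    have hδ1 : δ = 1 := by
      rcases hδ with rfl | rfl
      · rfl
      · push_cast at hDid; nlinarith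
    have h1 := hδpos hδ1
    rw [hδ1, h1] at hDid
    push_cast at hDid
    have : (1 : ℤ) ≤ r * p := by exact_mod_cast Nat.mul_pos hr1 hp.pos
    nlinarith
  have hteven : Even t := by
    obtain ⟨χ, hχ⟩ := Finset.card_pos.mp hy1
    obtain ⟨hχR, hne, haχ⟩ := Finset.mem_filter.mp hχ
    rcases hdeg χ hχR hne with ⟨h, -⟩ | ⟨-, hdχ⟩
    · omega
    have hp2 : p ≠ 2 := fun h => by rw [h] at hte; have := Nat.mul_le_mul ht1 he; omega
    have hpodd := hp.eq_two_or_odd.resolve_left hp2
    rcases Nat.even_or_odd e with hev | hodd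
    · have hsum : ∑ z : ZMod p, (χ : G → ℂ) (x ^ z.val) = 0 := by
        rw [sum_zmod_split, ZMod.val_zero, pow_zero, Finset.sum_congr rfl fun w _ => hRv χ hχR w,
          hsumw, haχ, DegreeBounds.Basic.charDegree_irr,
          show Cfsg.charDegree (χ : G → ℂ) = p - 1 by omega, Nat.cast_sub hp.one_le]
        push_cast; ring
      refine Restrict.even_of_perfect hperf (isCharacter_irr χ) (v := c.g)
        (c.pow_g_eq_one.mpr dvd_rfl) c.e_pos hev (fun k hk hk0 => ?_) ?_
      · exact c.apply_eq_zero (isCharacter_irr χ) hsum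
          (fun h => hk0 (Nat.eq_zero_of_dvd_of_lt h hk))
      · rw [DegreeBounds.Basic.charDegree_irr, hte, show p - 1 = Cfsg.charDegree (χ : G → ℂ) by omega]
    · rcases Nat.even_or_odd t with h | h
      · exact h
      · have : Odd (t * e) := h.mul hodd
        rw [hte] at this
        obtain ⟨w, hw⟩ := this
        omega
  obtain ⟨t', ht'⟩ := hteven
  rcases hδ with hδ1 | hδ1
  · -- `δ = 1`
    left
    have hde := hδpos hδ1
    rw [hδ1, hde] at hDid
    have hpz : (p : ℤ) ≠ 0 := by exact_mod_cast hp.ne_zero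
    have hxy' : (Rp.card : ℤ) + Rm.card + 1 = e := by exact_mod_cast hxy
    have hyr : (Rm.card : ℤ) = Rp.card * r := by
      refine mul_left_cancel₀ hpz ?_
      linear_combination hDid + hxy'
    -- the product `Y conj Y`
    have hY0 : ∀ k, ¬ e ∣ k → (Y 1 : G → ℂ) (c.g ^ k) = 0 := by
      intro k hk
      refine c.apply_eq_zero (isCharacter_irr _) ?_ hk
      rw [sum_zmod_split, ZMod.val_zero, pow_zero, Finset.sum_congr rfl fun w _ => hYv 1 w,
        ← Finset.mul_sum, hetasum, DegreeBounds.Basic.charDegree_irr, ← hd, hde, hδ1]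
      push_cast; ring
    let ψ : G → ℂ := fun y => (Y 1 : G → ℂ) y * conj ((Y 1 : G → ℂ) y)
    have hψ : Cfsg.IsCharacter G ψ :=
      isCharacter_mul (isCharacter_irr _) (isCharacter_conj (isCharacter_irr _))
    have hψc : ∀ y, conj (ψ y) = ψ y := fun y => by simp only [ψ, map_mul, Complex.conj_conj]; ring
    have hψj : ∀ j, Cfsg.classInner (c.theta hC j) ψ = 1 := by
      intro j
      have h := c.inner_theta hC (isClassFunction_of_isCharacter hψ) j
      rw [Finset.sum_eq_zero (s := (Finset.range c.e).erase 0) (fun k hk => by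
        obtain ⟨h0, h1⟩ := Finset.mem_erase.mp hk
        simp only [ψ, hY0 k (fun hd => h0 (Nat.eq_zero_of_dvd_of_lt hd (Finset.mem_range.mp h1))),
          zero_mul, map_zero]), mul_zero, add_zero] at h
      simp only [hψc] at h
      have hnorm : ∑ w : (ZMod p)ˣ, ψ (x ^ (w : ZMod p).val) = (e : ℂ) * ((p : ℂ) - e) := by
        have h1 : ∀ w : (ZMod p)ˣ, ψ (x ^ (w : ZMod p).val) =
            eta (autE hxp) (1 * QuotientGroup.mk w) *
              conj (eta (autE hxp) (1 * QuotientGroup.mk w)) := fun w => by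
          simp only [ψ, hYv, hδ1, Int.cast_one, one_mul]
        rw [Finset.sum_congr rfl fun w _ => h1 w,
          ← Finset.sum_fiberwise Finset.univ (fun w : (ZMod p)ˣ =>
            (QuotientGroup.mk w : (ZMod p)ˣ ⧸ autE hxp))]
        have hf : ∀ r' : (ZMod p)ˣ ⧸ autE hxp,
            ∑ w ∈ Finset.univ.filter (fun w : (ZMod p)ˣ =>
              (QuotientGroup.mk w : (ZMod p)ˣ ⧸ autE hxp) = r'),
              eta (autE hxp) (1 * QuotientGroup.mk w) *
                conj (eta (autE hxp) (1 * QuotientGroup.mk w)) =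
            (Fintype.card (autE hxp) : ℂ) *
              (eta (autE hxp) (r' * 1) * conj (eta (autE hxp) (r' * 1))) := by
          intro r'
          rw [Finset.sum_congr rfl fun w hw => by rw [(Finset.mem_filter.mp hw).2, one_mul],
            Finset.sum_const, card_fiber, nsmul_eq_mul, mul_one]
        rw [Finset.sum_congr rfl fun r' _ => hf r', ← Finset.mul_sum, sum_eta_mul_conj, if_pos rfl,
          hedef, Comp.e, Nat.card_eq_fintype_card]
      rw [sum_zmod_split, ZMod.val_zero, pow_zero, hnorm] at h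
      simp only [ψ, DegreeBounds.Basic.charDegree_irr, map_natCast, ← hd, hde] at h
      have hep0 : ((c.e * p : ℕ) : ℂ) ≠ 0 := Nat.cast_ne_zero.mpr (Nat.mul_pos c.e_pos hp.pos).ne'
      refine mul_left_cancel₀ hep0 (h.trans ?_)
      rw [← hedef]; push_cast; ring
    choose M hM using fun χ : Cfsg.IrrCharacter G =>
      exists_classInner_nat hψ (isCharacter_irr χ)
    have hψexp : ψ 1 = ∑ χ, (M χ : ℂ) * (χ : G → ℂ) 1 := by
      have := congrFun (Characters.Complete.classFunction_eq_sum
        (isClassFunction_of_isCharacter hψ)) 1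
      rw [Finset.sum_apply] at this
      rw [this]
      exact Finset.sum_congr rfl fun χ _ => by simp [hM]
    have hM1 : M (oneChar G) = 1 := by
      have h : Cfsg.classInner ψ (oneChar G : G → ℂ) = 1 := by
        rw [← classInner_self_irr (Y 1)]
        simp [Cfsg.classInner, ψ, oneChar_apply]
      rw [hM] at h
      exact_mod_cast h
    have hMp : ∀ χ ∈ Rp, M χ = 1 := by
      intro χ hχ
      obtain ⟨hχR, hne, haχ⟩ := Finset.mem_filter.mp hχ
      have hex : ∃ j < e, j ≠ 0 ∧ m j χ ≠ 0 := by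
        by_contra hc
        push Not at hc
        have hs := hc0R χ hχR
        rw [Finset.sum_eq_zero (fun j hj => by
          rcases eq_or_ne j 0 with rfl | hj0
          · rw [hzero.1 χ hχR haχ hne, Nat.cast_zero]
          · rw [hc j (Finset.mem_range.mp hj) hj0, Nat.cast_zero]), haχ] at hs
        rcases hdeg χ hχR hne with ⟨-, h⟩ | ⟨h, -⟩
        · rw [h] at hs
          have : (1 : ℤ) ≤ r * p := by exact_mod_cast Nat.mul_pos hr1 hp.pos
          push_cast at hs; omega
        · omega
      obtain ⟨j, hj, hj0, hmj⟩ := hex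
      rcases hdeg χ hχR hne with ⟨-, hdχ⟩ | ⟨h, -⟩
      swap
      · omega
      have hall := hfullc j χ hdχ hmj
      have hθ : c.theta hC j = (χ : G → ℂ) := by
        funext y
        rw [hval, Finset.sum_eq_single χ (fun ψ' _ h => by rw [hall, if_neg h]; simp) (by simp),
          hall, if_pos rfl]
        simp
      have h1 := hψj j
      rw [hθ, ← classInner_conj_symm, hM, map_natCast] at h1
      exact_mod_cast h1
    have hψ1 : ψ 1 = ((e * e : ℕ) : ℂ) := by
      simp only [ψ, DegreeBounds.Basic.charDegree_irr, map_natCast, ← hd, hde]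
      push_cast; ring
    rw [hψ1] at hψexp
    simp only [DegreeBounds.Basic.charDegree_irr] at hψexp
    have hsumM : e * e = ∑ χ, M χ * Cfsg.charDegree (χ : G → ℂ) := by exact_mod_cast hψexp
    have hle : 1 + Rp.card * (r * p + 1) ≤ e * e := by
      rw [hsumM]
      calc 1 + Rp.card * (r * p + 1)
          = ∑ χ ∈ insert (oneChar G) Rp, M χ * Cfsg.charDegree (χ : G → ℂ) := by
            rw [Finset.sum_insert (by simp [hRp]), hM1, hone,
              Finset.sum_congr rfl (g := fun _ => r * p + 1) (fun χ hχ => by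
                obtain ⟨hχR, hne, haχ⟩ := Finset.mem_filter.mp hχ
                rcases hdeg χ hχR hne with ⟨-, h⟩ | ⟨h, -⟩
                · rw [hMp χ hχ, one_mul, h]
                · omega),
              Finset.sum_const, smul_eq_mul, one_mul]
        _ ≤ _ := Finset.sum_le_sum_of_subset (Finset.subset_univ _)
    have hx1 : 1 ≤ Rp.card := by
      rcases Nat.eq_zero_or_pos Rp.card with h | h
      · rw [h, Nat.cast_zero, zero_mul] at hyr
        have : Rm.card = 0 := by exact_mod_cast hyr
        omega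
      · exact h
    set X := Rp.card
    have hk : e = X * (r + 1) + 1 := by
      have : Rm.card = X * r := by exact_mod_cast hyr
      rw [mul_add, mul_one]
      omega
    have h1 : e * (t * (X * r)) ≤ e * (X * (r + 1)) := by
      have e1 : X * (r * p + 1) + 1 = e * (t * (X * r)) + e := by
        rw [hpe]; conv_rhs => arg 2; rw [hk]
        ring
      have e2 : e * e = e * (X * (r + 1)) + e := by
        conv_lhs => arg 2; rw [hk]
        ring
      omega
    have h2' : t * (X * r) ≤ X * (r + 1) := Nat.le_of_mul_le_mul_left h1 c.e_pos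
    rw [show t * (X * r) = X * (t * r) by ring] at h2'
    have h3 : t * r ≤ r + 1 := Nat.le_of_mul_le_mul_left h2' (by omega)
    have ht2 : t = 2 := by
      by_contra hc
      have := Nat.mul_le_mul_right r (show 3 ≤ t by omega)
      omega
    rw [ht2] at h3
    have hr1' : r = 1 := by omega
    exact ⟨by rw [hpe, ht2], by rw [hn, hr1', one_mul]⟩
  · -- `δ = -1`
    right
    rw [hδ1] at hDid hc0Y
    set J := (Finset.range e).filter fun j => m j (Y 1) = 1 with hJ
    have hJmem : ∀ j ∈ J, j < e ∧ j ≠ 0 := by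
      intro j hj
      obtain ⟨h1, h2⟩ := Finset.mem_filter.mp hj
      refine ⟨Finset.mem_range.mp h1, fun h => ?_⟩
      rw [h, hzero.2] at h2; omega
    have hm01 : ∀ j ∈ Finset.range e, (m j (Y 1) : ℤ) = if m j (Y 1) = 1 then 1 else 0 := by
      intro j hj
      rcases eq_or_ne j 0 with rfl | hj0
      · simp [hzero.2]
      · rcases htype j (Finset.mem_range.mp hj) hj0 with ⟨χ, hχ, -, -, hall⟩ | ⟨-, -, hq⟩
        · have h0 : m j (Y 1) = 0 := by
            rw [hall, if_neg (fun (h : Y 1 = χ) => hYR 1 (h ▸ hχ))]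
          simp [h0]
        · simp [hq 1]
    have hs := hc0Y 1
    rw [Finset.sum_congr rfl hm01, Finset.sum_boole, ← hJ] at hs
    set s := J.card with hsdef
    have hs1 : 1 ≤ s := by
      by_contra hc
      have : s = 0 := by omega
      rw [this] at hs
      have : (0 : ℤ) ≤ d := Int.natCast_nonneg d
      push_cast at hs; omega
    obtain ⟨j₁, hj₁⟩ := Finset.card_pos.mp hs1
    have hj₁' : ∀ j ∈ J, (∀ χ ∈ R, m j χ = 0) ∧ ∀ q, m j (Y q) = 1 := by
      intro j hj
      obtain ⟨hje, hj0⟩ := hJmem j hj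
      rcases htype j hje hj0 with ⟨χ, hχ, -, -, hall⟩ | ⟨-, h, h'⟩
      · have h1 := (Finset.mem_filter.mp hj).2
        rw [hall, if_neg (fun (h : Y 1 = χ) => hYR 1 (h ▸ hχ))] at h1
        omega
      · exact ⟨h, h'⟩
    have hde : d + e = s * p := by
      have : ((d + e : ℕ) : ℤ) = ((s * p : ℕ) : ℤ) := by push_cast; linarith
      exact_mod_cast this
    have hxy' : (Rp.card : ℤ) + Rm.card + 1 = e := by exact_mod_cast hxy
    have hde' : (d : ℤ) + e = (s : ℤ) * p := by exact_mod_cast hde
    have hyr : (Rm.card : ℤ) = Rp.card * r + s := by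
      refine mul_left_cancel₀ (show (p : ℤ) ≠ 0 by exact_mod_cast hp.ne_zero) ?_
      linear_combination hDid + hde' + hxy'
    have hdouble : e = Rp.card * (r + 1) + s + 1 := by
      have : Rm.card = Rp.card * r + s := by exact_mod_cast hyr
      rw [mul_add, mul_one]; omega
    -- `t` divides `r + 1`
    obtain ⟨h, hh⟩ : t ∣ r + 1 := by
      obtain ⟨χ, hχ⟩ := Finset.card_pos.mp hy1
      obtain ⟨hχR, hne, haχ⟩ := Finset.mem_filter.mp hχ
      rcases hdeg χ hχR hne with ⟨h', -⟩ | ⟨-, hdχ⟩
      · omega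
      have h1 : t * e ∣ p * (e * (r * p + 1)) := by
        rw [hte, show p - 1 = Cfsg.charDegree (χ : G → ℂ) by omega,
          show p * (e * (r * p + 1)) = Nat.card G by rw [hcardG]; ring]
        exact DegreeBounds.Basic.charDegree_dvd χ
      have h2 : t * e ∣ e * (r * p + 1) := by
        refine Nat.Coprime.dvd_of_dvd_mul_left ?_ h1
        rw [hte, Nat.coprime_comm, hp.coprime_iff_not_dvd]
        intro hdvd
        have := hp.two_le
        have := Nat.le_of_dvd (by omega) hdvd
        omega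
      rw [mul_comm e] at h2
      have h3 : t ∣ r * p + 1 := Nat.dvd_of_mul_dvd_mul_right c.e_pos h2
      rw [hpe, show r * (t * e + 1) + 1 = t * (r * e) + (r + 1) by ring] at h3
      exact (Nat.dvd_add_right (dvd_mul_right t _)).mp h3
    have hNth : r * p + 1 = t * (r * e + h) := by rw [hpe, mul_add t, ← hh]; ring
    have hdeq : d = r * e + h := by
      have hcopp : d.Coprime p := by
        rw [Nat.coprime_comm, hp.coprime_iff_not_dvd]
        intro hdvd
        have : p ∣ e := (Nat.dvd_add_right hdvd).mp (hde ▸ dvd_mul_left p s)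
        have := Nat.le_of_dvd c.e_pos this
        omega
      have h1 : d ∣ e * (r * p + 1) := by
        refine hcopp.dvd_of_dvd_mul_left (m := p) ?_
        rw [show p * (e * (r * p + 1)) = Nat.card G by rw [hcardG]; ring, hd]
        exact DegreeBounds.Basic.charDegree_dvd _
      have h3 : ((d * t : ℕ) : ZMod p) = 1 := by
        have e1 : ((d + e : ℕ) : ZMod p) = 0 := by rw [hde]; simp
        have e2 : ((t * e + 1 : ℕ) : ZMod p) = 0 := by rw [← hpe]; simp
        push_cast at e1 e2 ⊢
        linear_combination (t : ZMod p) * e1 - e2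
      rcases Formula.dvd_plus hF' h3 (by
        rw [← hte]; exact (Nat.mul_dvd_mul_right h1 t).trans ⟨1, by ring⟩) with h4 | h4
      · have := Nat.eq_one_of_mul_eq_one_left h4; omega
      · refine Nat.eq_of_mul_eq_mul_right (show 0 < t by omega) (h4.trans ?_)
        rw [hNth, mul_comm]
    have htd : t * d = r * p + 1 := by rw [hdeq, hNth]
    have hsh : s = h := by
      refine Nat.eq_of_mul_eq_mul_right hp.pos ?_
      rw [← hde, hdeq]
      calc r * e + h + e = (r + 1) * e + h := by ring
        _ = h * p := by rw [hh, hpe]; ring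
    -- the constituents for indices in `J`
    have hYJ : ∀ j ∈ J, ∀ ψ, m j ψ = if ψ ∈ Finset.univ.image Y then 1 else 0 := by
      intro j hj ψ
      split_ifs with hψ
      · obtain ⟨q, -, rfl⟩ := Finset.mem_image.mp hψ
        exact (hj₁' j hj).2 q
      · have h0 := hdegsum j
        rw [← Finset.sum_sdiff (Finset.subset_univ (Finset.univ.image Y)),
          Finset.sum_image hYinj.injOn,
          Finset.sum_congr rfl (s₁ := Finset.univ) (fun q _ => by
            rw [(hj₁' j hj).2, hYdeg, one_mul]),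
          Finset.sum_const, Finset.card_univ, smul_eq_mul, ← htdef, htd, add_eq_right] at h0
        have := Finset.sum_eq_zero_iff.mp h0 ψ (Finset.mem_sdiff.mpr ⟨Finset.mem_univ _, hψ⟩)
        rcases Nat.mul_eq_zero.mp this with h' | h'
        · exact h'
        · exact absurd h' (DegreeBounds.Basic.charDegree_pos ψ).ne'
    have hm0Y : ∀ q, m 0 (Y q) = 0 := hzero.2
    have horth : ∀ j ∈ Finset.range e, j ≠ 0 →
        Cfsg.classInner (c.theta hC j) (c.theta hC 0) = 0 := by
      intro j hj hj0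
      rw [hinner]
      refine Finset.sum_eq_zero fun ψ _ => ?_
      rcases htype j (Finset.mem_range.mp hj) hj0 with ⟨χ, hχ, hne, haχ, hall⟩ | ⟨-, -, hq⟩
      · rw [hall]
        split_ifs with hψ
        · rw [hψ, hzero.1 χ hχ haχ hne, Nat.cast_zero, mul_zero]
        · rw [Nat.cast_zero, zero_mul]
      · rw [hYJ j (Finset.mem_filter.mpr ⟨hj, hq 1⟩)]
        split_ifs with hψ
        · obtain ⟨q, -, rfl⟩ := Finset.mem_image.mp hψ
          rw [hm0Y, Nat.cast_zero, mul_zero]
        · rw [Nat.cast_zero, zero_mul]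
    -- fixed points
    have hp0 : (p : ℂ) ≠ 0 := Nat.cast_ne_zero.mpr hp.ne_zero
    have hπconj : ∀ y, conj (c.theta hC 0 y) = c.theta hC 0 y := fun y => by
      rw [c.theta_zero hC hP]; simp
    have hsum0 : ∑ z : ZMod p, conj (c.theta hC 0 (x ^ z.val)) = ((r + 1 : ℕ) : ℂ) * p := by
      rw [sum_zmod_split, ZMod.val_zero, pow_zero, c.theta_one hC hP, hn,
        Finset.sum_congr rfl fun w _ => by rw [c.theta_pow_x hC hP 0 w], Finset.sum_const,
        Finset.card_univ, ZMod.card_units, nsmul_eq_mul, map_one, map_natCast]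
      push_cast [Nat.cast_sub hp.one_le]
      ring
    have hnorm0 : Cfsg.classInner (c.theta hC 0) (c.theta hC 0) = ((r + 1 : ℕ) : ℂ) := by
      have h1 := c.sum_inner_theta hC (c.theta_classFun hC 0)
      rw [hsum0, Finset.sum_eq_single 0 (fun j hj hj0 => horth j hj hj0)
        (fun hn => absurd (Finset.mem_range.mpr c.e_pos) hn)] at h1
      refine mul_left_cancel₀ hp0 ?_
      rw [h1, mul_comm]
    have hfull : ∀ k, ¬ c.e ∣ k → Nat.card (fixedBy (Sylow p G) (c.g ^ k)) = r + 1 := by
      have h1 := c.inner_theta hC (c.theta_classFun hC 0) 0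
      rw [hnorm0, hsum0, c.theta_zero hC hP] at h1
      simp only [map_natCast, zero_mul, pow_zero, mul_one] at h1
      have h2 : e * p * (r + 1) = (r + 1) * p +
          p * ∑ k ∈ (Finset.range e).erase 0, Nat.card (fixedBy (Sylow p G) (c.g ^ k)) := by
        exact_mod_cast h1
      have h3 : ∑ k ∈ (Finset.range e).erase 0, Nat.card (fixedBy (Sylow p G) (c.g ^ k)) =
          ((Finset.range e).erase 0).card * (r + 1) := by
        refine Nat.eq_of_mul_eq_mul_left hp.pos ?_
        rw [Finset.card_erase_of_mem (Finset.mem_range.mpr c.e_pos), Finset.card_range]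
        show _ = p * ((e - 1) * (r + 1))
        obtain ⟨e', he'⟩ : ∃ e', e = e' + 1 := ⟨e - 1, by omega⟩
        rw [he'] at h2 ⊢
        rw [Nat.add_sub_cancel]
        nlinarith only [h2]
      intro k hk
      have hk' : k % e ∈ (Finset.range e).erase 0 :=
        Finset.mem_erase.mpr ⟨fun h0 => hk (Nat.dvd_of_mod_eq_zero h0),
          Finset.mem_range.mpr (Nat.mod_lt _ c.e_pos)⟩
      have hle : ∀ i ∈ (Finset.range e).erase 0,
          Nat.card (fixedBy (Sylow p G) (c.g ^ i)) ≤ r + 1 := fun i hi => by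
        refine c.card_fixed_le hC hP hn fun hd' => ?_
        obtain ⟨h0, h1'⟩ := Finset.mem_erase.mp hi
        exact h0 (Nat.eq_zero_of_dvd_of_lt hd' (Finset.mem_range.mp h1'))
      have := (Finset.sum_eq_sum_iff_of_le hle).mp (by rw [h3, Finset.sum_const, smul_eq_mul])
        (k % e) hk'
      rwa [hedef, Comp.e, ← c.ord_g, pow_mod_orderOf] at this
    -- `s = 1`
    have hM := c.card_M hC hP hn hfull he
    have hse : s = 1 := by
      have h1 : e * (t * h) ∣ Nat.card G := by
        rw [← hh, ← hM]; exact Subgroup.card_subgroup_dvd_card _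
      rw [hcardG, hNth, show t * (r * e + h) * (e * p) = e * (t * ((r * e + h) * p)) by ring] at h1
      have h2 : h ∣ (r * e + h) * p :=
        Nat.dvd_of_mul_dvd_mul_left (by omega) (Nat.dvd_of_mul_dvd_mul_left c.e_pos h1)
      rw [← hsh] at h2 hdeq hh
      rw [← hdeq] at h2
      have h3 : s ∣ d := by
        refine Nat.Coprime.dvd_of_dvd_mul_right ?_ h2
        rw [Nat.coprime_comm, hp.coprime_iff_not_dvd]
        intro hd'
        have := Nat.le_of_dvd hs1 hd'
        omega
      have h4 : s ∣ e := (Nat.dvd_add_right h3).mp (hde ▸ dvd_mul_right s p)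
      rw [hh, show Rp.card * (t * s) + s + 1 = (Rp.card * t + 1) * s + 1 by ring] at hdouble
      rw [hdouble] at h4
      exact Nat.dvd_one.mp ((Nat.dvd_add_right (dvd_mul_left s _)).mp h4)
    have hh1 : h = 1 := hsh ▸ hse
    have htr : t = r + 1 := by rw [hh, hh1, mul_one]
    have hea : e = 2 + Rp.card * t := by rw [htr]; omega
    have heven : e = 2 * (e / 2) := by
      have h1 : t ∣ Rp.card * t := dvd_mul_left _ _
      have h2' : 2 ∣ Rp.card * t := Dvd.dvd.trans ⟨t', by omega⟩ h1
      omega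
    set f := e / 2 with hf
    have hfk : ¬ c.e ∣ f := fun hd' => by
      have := Nat.le_of_dvd (by omega) hd'
      omega
    -- the exponents of `M` are odd
    have := Fintype.ofFinite c.M
    have hkodd : ∀ m' : c.M, c.kappa m' % 2 = 1 := by
      intro m'
      by_contra hc
      have hev : 2 ∣ c.kappa m' := by omega
      obtain ⟨w, hw⟩ := hev
      have h1 : ((m' : G)⁻¹ * c.g * m') ^ f = 1 := by
        rw [c.kappa_spec, hw, ← pow_mul]
        exact c.pow_g_eq_one.mpr ⟨w, by rw [show 2 * w * f = 2 * f * w by ring, ← heven]⟩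
      rw [show (m' : G)⁻¹ * c.g * m' = (m' : G)⁻¹ * c.g * ((m' : G)⁻¹)⁻¹ by rw [inv_inv],
        conj_pow, conj_eq_one_iff] at h1
      exact hfk (c.pow_g_eq_one.mp h1)
    have hfodd : ∀ a k : ℕ, k % 2 = 1 → a * f * k ≡ a * f [MOD c.e] := by
      intro a k hk
      obtain ⟨w, hw⟩ : ∃ w, k = 2 * w + 1 := ⟨k / 2, by omega⟩
      rw [hw]
      refine ((Nat.modEq_iff_dvd' (Nat.le_mul_of_pos_right _ (by omega))).mpr ⟨a * w, ?_⟩).symm
      rw [show a * f * (2 * w + 1) = 2 * f * (a * w) + a * f by ring, Nat.add_sub_cancel,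
        ← heven, hedef]
    -- `f` is the index of exceptional type
    have hfJ : f ∈ J := by
      rcases htype f (by omega) (by omega) with ⟨χ, hχ, hne, haχ, hall⟩ | ⟨-, -, hq⟩
      · exfalso
        have hn1 := c.norm_theta hC hP hn hfull he f
        rw [hinner, Finset.sum_eq_single χ (fun ψ _ h' => by rw [hall, if_neg h']; simp) (by simp),
          hall, if_pos rfl, Finset.filter_true_of_mem (fun m' _ => by
            simpa using hfodd 1 _ (hkodd m')), Finset.card_univ, ← Nat.card_eq_fintype_card, hM]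
          at hn1
        simp only [Nat.cast_one, mul_one] at hn1
        have h1 : e = e * (r + 1) := by exact_mod_cast hn1
        have := Nat.mul_le_mul_left e (show 2 ≤ r + 1 by omega)
        omega
      · exact Finset.mem_filter.mpr ⟨Finset.mem_range.mpr (by omega), hq 1⟩
    -- the value on the involution
    have hreg : ∀ y : G, ¬ p ∣ orderOf y →
        c.theta hC f y = (t : ℂ) * (Y 1 : G → ℂ) y := by
      intro y hy
      rw [hval, ← Finset.sum_subset (Finset.subset_univ (Finset.univ.image Y)) (fun ψ _ hψ => by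
        rw [hYJ f hfJ, if_neg hψ, Nat.cast_zero, zero_mul]), Finset.sum_image hYinj.injOn,
        Finset.sum_congr rfl (fun q _ => by
          rw [(hj₁' f hfJ).2, hYreg q y hy, Nat.cast_one, one_mul]),
        Finset.sum_const, Finset.card_univ, nsmul_eq_mul, ← htdef]
    have hzreg : ¬ p ∣ orderOf (c.g ^ f) := fun hd' => by
      have := (hd'.trans (orderOf_pow_dvd f))
      rw [c.ord_g] at this
      have := Nat.le_of_dvd c.e_pos this
      omega
    have ht0 : (t : ℂ) ≠ 0 := Nat.cast_ne_zero.mpr (by omega)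
    obtain ⟨ε, hε, hεv⟩ : ∃ ε : ℤ, (ε = 1 ∨ ε = -1) ∧ c.ω ^ (f * f) = ε := by
      have h1 : c.ω ^ (f * f) * c.ω ^ (f * f) = 1 := by
        rw [← pow_add, show f * f + f * f = c.e * f by rw [← hedef, heven]; ring, pow_mul,
          c.ω_spec.pow_eq_one, one_pow]
      rcases mul_self_eq_one_iff.mp h1 with h | h
      · exact ⟨1, Or.inl rfl, by rw [h]; simp⟩
      · exact ⟨-1, Or.inr rfl, by rw [h]; simp⟩
    refine ⟨{
      r := r
      t := t
      a := Rp.card
      χ := Y 1
      ε := ε
      hn := hn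
      hr := hr1
      ht := htr
      hteven := ⟨t', ht'⟩
      hp := hpe
      he := hea
      hε := hε
      hfull := hfull
      hd := by rw [← hd, hdeq, hh1]
      hfree := fun y hy hfree' => ?_
      hinv := ?_
      hirr := fun m' hm' j hj => ?_ }⟩
    · have h1 := hreg y hy
      rw [c.theta_of_free hC hP f hfree', eq_comm, mul_eq_zero] at h1
      exact h1.resolve_left ht0
    · show (Y 1 : G → ℂ) (c.g ^ (e / 2)) = _
      rw [← hf]
      have h1 := c.theta_pow_g hC hP hn hfull he f hfk
      rw [hreg _ hzreg, Finset.sum_congr rfl (fun m' _ => by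
        rw [show f * (f * c.kappa m') = f * f * c.kappa m' by ring,
          c.ω_pow_congr (hfodd f _ (hkodd m')), hεv]),
        Finset.sum_const, Finset.card_univ, ← Nat.card_eq_fintype_card, hM, nsmul_eq_mul,
        Nat.cast_mul, mul_assoc, ← htr] at h1
      exact mul_left_cancel₀ ht0 (mul_left_cancel₀ (Nat.cast_ne_zero.mpr c.e_pos.ne') h1)
    · by_contra hc
      have hj0 : ¬ e ∣ j := fun hd' => hc (hd'.trans (dvd_mul_left j 2))
      set i := j % e with hi
      have hie : i < e := Nat.mod_lt _ c.e_pos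
      have hi0 : i ≠ 0 := fun h0 => hj0 (Nat.dvd_of_mod_eq_zero h0)
      have hmod : j ≡ i [MOD c.e] := (Nat.mod_modEq j e).symm
      have hif : i ≠ f := by
        intro h0
        apply hc
        have h1 : 2 * j ≡ 2 * f [MOD c.e] := h0 ▸ hmod.mul_left 2
        rw [← heven] at h1
        exact Nat.modEq_zero_iff_dvd.mp (h1.trans (by rw [hedef]; exact Nat.modEq_zero_iff_dvd.mpr dvd_rfl))
      have hJ1 : ∀ k ∈ J, k = f := fun k hk =>
        Finset.card_le_one.mp (by rw [← hsdef]; omega) k hk f hfJ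
      rcases htype i hie hi0 with ⟨χ, hχ, hne, haχ, hall⟩ | ⟨-, -, hq⟩
      · have hn1 := c.norm_theta hC hP hn hfull he i
        rw [hinner, Finset.sum_eq_single χ (fun ψ _ h' => by rw [hall, if_neg h']; simp) (by simp),
          hall, if_pos rfl] at hn1
        simp only [Nat.cast_one, mul_one] at hn1
        have hcard : (Finset.univ.filter fun m'' : c.M =>
            i * c.kappa m'' ≡ i [MOD c.e]).card = e := by exact_mod_cast hn1.symm
        let H : Finset c.M := Finset.univ.filter fun m'' => (m'' : G) ∈ Subgroup.zpowers c.g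
        have hHcard : H.card = e := by
          rw [← Fintype.card_subtype, ← Nat.card_eq_fintype_card, hedef, Comp.e, ← c.ord_g,
            ← Nat.card_zpowers]
          exact Nat.card_congr
            { toFun := fun m'' => ⟨m''.1.1, m''.2⟩
              invFun := fun h => ⟨⟨h.1, c.zpowers_le_M h.2⟩, h.2⟩
              left_inv := fun _ => rfl
              right_inv := fun _ => rfl }
        have hsub : insert m' H ⊆ Finset.univ.filter fun m'' : c.M =>
            i * c.kappa m'' ≡ i [MOD c.e] := by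
          intro m'' hm''
          rw [Finset.mem_filter]
          refine ⟨Finset.mem_univ _, ?_⟩
          rcases Finset.mem_insert.mp hm'' with rfl | hH
          · exact ((hmod.mul_right _).symm.trans hj).trans hmod
          · obtain ⟨w, hw⟩ := Subgroup.mem_zpowers_iff.mp (Finset.mem_filter.mp hH).2
            have h1 : c.g ^ c.kappa m'' = c.g ^ 1 := by
              rw [← c.kappa_spec, ← hw, pow_one, mul_assoc,
                ((Commute.refl c.g).zpow_right w).eq, inv_mul_cancel_left]
            rw [pow_eq_pow_iff_modEq, c.ord_g] at h1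
            simpa using h1.mul_left i
        have hnot : m' ∉ H := fun hH => hm' (Finset.mem_filter.mp hH).2
        have := Finset.card_le_card hsub
        rw [Finset.card_insert_of_notMem hnot, hHcard, hcard] at this
        omega
      · exact hif (hJ1 i (Finset.mem_filter.mpr ⟨Finset.mem_range.mpr hie, hq 1⟩))

end Cfsg.Agent.Lib.FirstPower.PerfectFew
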