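import Cfsg.Agent.Lib.FirstPower.PerfectFew.Cases

/-!
# The configuration with `t = r + 1`: either `t = 2` or an elementary abelian involution centralizer
-/

namespace Cfsg.Agent.Lib.FirstPower.PerfectFew

open Periods Average Consequences Cfsg.Agent.Lib.Characters.Basic
open Family (pow_eq_one_of_order)
open MulAction

universe u

variable {p : ℕ} [Fact p.Prime] {G : Type u} [Group G] [Fintype G] {x : G} {hx : orderOf x = p}
variable {P : Sylow p G} {c : Comp hx} (K : Config hx c)
variable (hC : Subgroup.centralizer ({x} : Set G) = Subgroup.zpowers x)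
variable (hP : (P : Subgroup G) = Subgroup.zpowers x)

include K

theorem Config.even_e : c.e = 2 * (c.e / 2) := by
  have h1 : 2 ∣ K.a * K.t := Dvd.dvd.mul_left (even_iff_two_dvd.mp K.hteven) _
  have := K.he
  omega

theorem Config.two_le_t : 2 ≤ K.t := by have := K.ht; have := K.hr; omega

theorem Config.two_le_e : 2 ≤ c.e := by have := K.he; omega

theorem Config.five_le : 5 ≤ p := by
  have := K.hp
  have := Nat.mul_le_mul K.two_le_t K.two_le_e
  omega

theorem Config.half_not_dvd : ¬ c.e ∣ c.e / 2 := fun h => by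
  have h1 := K.two_le_e
  have := Nat.le_of_dvd (by omega) h
  omega

theorem Config.conj_z {m : G} (hm : m ∈ c.M) :
    m⁻¹ * c.g ^ (c.e / 2) * m = c.g ^ (c.e / 2) := by
  obtain ⟨k, hk⟩ := c.conj_mem_zpowers hm
  have hodd : k % 2 = 1 := by
    by_contra hc
    obtain ⟨w, hw⟩ : 2 ∣ k := by omega
    have h1 : (m⁻¹ * c.g * m) ^ (c.e / 2) = 1 := by
      rw [hk, hw, ← pow_mul]
      refine c.pow_g_eq_one.mpr ⟨w, ?_⟩
      calc 2 * w * (c.e / 2) = 2 * (c.e / 2) * w := by ring
        _ = c.e * w := by rw [← K.even_e]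
    rw [show m⁻¹ * c.g * m = m⁻¹ * c.g * (m⁻¹)⁻¹ by rw [inv_inv], conj_pow, conj_eq_one_iff] at h1
    exact K.half_not_dvd (c.pow_g_eq_one.mp h1)
  have h2 : m⁻¹ * c.g ^ (c.e / 2) * m = (m⁻¹ * c.g * m) ^ (c.e / 2) := by
    rw [show m⁻¹ * c.g * m = m⁻¹ * c.g * (m⁻¹)⁻¹ by rw [inv_inv], conj_pow, inv_inv]
  rw [h2, hk, ← pow_mul]
  obtain ⟨w, hw⟩ : ∃ w, k = 2 * w + 1 := ⟨k / 2, by omega⟩
  rw [show k * (c.e / 2) = 2 * (c.e / 2) * w + c.e / 2 by rw [hw]; ring, ← K.even_e, pow_add,
    c.pow_g_eq_one.mpr (dvd_mul_right _ _), one_mul]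

include hC hP in
theorem Config.not_fixed {y : G} (h : ¬ orderOf y ∣ c.e * p) (Q : Sylow p G) : y • Q ≠ Q := by
  intro hQ
  obtain ⟨d, -, hd⟩ := smul_mem_normalizer hP hQ
  apply h
  rw [← c.card_normalizer hC]
  have h1 := Subgroup.orderOf_dvd_natCard _ hd
  rwa [show d⁻¹ * y * d = MulAut.conj d⁻¹ y by simp, MulEquiv.orderOf_eq] at h1

include hC hP in
theorem Config.isConj_of_involution {i : G} (hi : orderOf i = 2) :
    IsConj (c.g ^ (c.e / 2)) i := by
  classical
  have hxp := pow_eq_one_of_order hx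
  have hp5 := K.five_le
  have hi2 : i ^ 2 = 1 := hi ▸ pow_orderOf_eq_one i
  by_cases hfix : ∀ Q : Sylow p G, i • Q ≠ Q
  · exfalso
    have hreg : ¬ p ∣ orderOf i := by
      rw [hi]; intro h; have := Nat.le_of_dvd two_pos h; omega
    have h0 := K.hfree i hreg hfix
    have hζ : IsPrimitiveRoot (-1 : ℂ) 2 := IsPrimitiveRoot.neg_one 0 (by norm_num)
    obtain ⟨ι, hι, a, -, -, -, ha, hval, -⟩ :=
      Restrict.exists_exponents (isCharacter_irr K.χ) two_ne_zero hi2 hζ
    have h := Restrict.card_mul_eq hζ ha 0 two_pos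
    rw [Finset.sum_congr rfl fun k _ => by rw [← hval k], Finset.sum_range_succ,
      Finset.sum_range_succ, Finset.sum_range_zero, pow_one, h0, pow_zero, mul_zero, pow_zero,
      zero_mul, add_zero, zero_add, mul_one, DegreeBounds.Basic.charDegree_irr, K.hd] at h
    have h' : K.r * c.e + 1 = 2 * (Finset.univ.filter fun j => a j = 0).card := by exact_mod_cast h
    have he2 := K.even_e
    have h3 : K.r * c.e = 2 * (K.r * (c.e / 2)) := by
      calc K.r * c.e = K.r * (2 * (c.e / 2)) := by rw [← he2]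
        _ = _ := by ring
    omega
  · push Not at hfix
    obtain ⟨Q, hQ⟩ := hfix
    obtain ⟨d, -, hd⟩ := smul_mem_normalizer hP hQ
    obtain ⟨a, k, hk, hak⟩ := c.exists_elem hC hd
    have hconj : IsConj (d⁻¹ * i * d) i := isConj_iff.mpr ⟨d, by group⟩
    have hk0 : ¬ c.e ∣ k := by
      intro h
      rw [Nat.eq_zero_of_dvd_of_lt h hk, pow_zero, mul_one] at hak
      have h1 : orderOf (d⁻¹ * i * d) = 2 := by
        rw [show d⁻¹ * i * d = MulAut.conj d⁻¹ i by simp, MulEquiv.orderOf_eq, hi]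
      rw [hak] at h1
      have h2 : orderOf (x ^ a.val) ∣ p :=
        orderOf_dvd_of_pow_eq_one (by rw [← pow_mul, mul_comm, pow_mul, hxp, one_pow])
      rw [h1] at h2
      rcases (Nat.dvd_prime (Fact.out : p.Prime)).mp h2 with h' | h' <;> omega
    obtain ⟨b, hb⟩ := c.exists_conj hk0 a
    have hck : IsConj (c.g ^ k) (d⁻¹ * i * d) := isConj_iff.mpr ⟨x ^ b.val, by rw [hb, hak]⟩
    have hord : c.g ^ (2 * k) = 1 := by
      have h1 : orderOf (c.g ^ k) ∣ 2 := by
        obtain ⟨w, hw⟩ := isConj_iff.mp (hck.trans hconj)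
        rw [← hi, ← hw, ← MulAut.conj_apply, MulEquiv.orderOf_eq]
      rw [mul_comm, pow_mul]
      exact orderOf_dvd_iff_pow_eq_one.mp h1
    have hkf : k = c.e / 2 := by
      obtain ⟨w, hw⟩ := c.pow_g_eq_one.mp hord
      have he2 := K.even_e
      rcases Nat.lt_or_ge w 2 with hw2 | hw2
      · interval_cases w
        · exfalso; exact hk0 ⟨0, by omega⟩
        · omega
      · have := Nat.mul_le_mul_left c.e hw2
        omega
    rw [← hkf]
    exact hck.trans hconj

include hC hP in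
theorem Config.not_order_four (h4 : ¬ 4 ∣ c.e) {y : G} (hy : orderOf y = 4) : False := by
  have hy2 : orderOf (y ^ 2) = 2 := by
    rw [orderOf_pow' y two_ne_zero, hy]; rfl
  have hz : (K.χ : G → ℂ) (y ^ 2) = K.ε := by
    rw [← K.hinv]
    exact (classFunction_apply_of_isConj (isClassFunction_irr K.χ)
      (K.isConj_of_involution hC hP hy2)).symm
  have hp5 := K.five_le
  have h := Restrict.two_of_zeros (isCharacter_irr K.χ) (v := y) (h := 2)
    (by rw [show 2 * 2 = orderOf y by rw [hy], pow_orderOf_eq_one]) two_pos K.hε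
    (fun k hk hk0 hk2 => ?_) hz (DegreeBounds.Basic.charDegree_irr K.χ)
  · omega
  have hord : orderOf (y ^ k) = 4 := by
    rw [orderOf_pow' y hk0, hy]
    interval_cases k <;> simp_all
  refine K.hfree _ ?_ (K.not_fixed hC hP ?_)
  · rw [hord]; intro hdvd; have := Nat.le_of_dvd (by omega) hdvd
    rcases (Nat.Prime.eq_two_or_odd (Fact.out : p.Prime)) with h | h <;> omega
  · rw [hord]
    intro hdvd
    refine h4 (Nat.Coprime.dvd_of_dvd_mul_right ?_ hdvd)
    rw [Nat.coprime_comm, (Fact.out : p.Prime).coprime_iff_not_dvd]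
    intro h
    have := Nat.le_of_dvd (by omega) h
    omega

include hC hP in
theorem Config.not_odd_prime {ℓ : ℕ} (hℓ : ℓ.Prime) (hℓ2 : ℓ ≠ 2) (hℓp : ℓ ≠ p)
    (hℓe : ¬ ℓ ∣ c.e) {w : G} (hwM : w ∈ c.M) (hw : orderOf w = ℓ) : False := by
  set z := c.g ^ (c.e / 2) with hz
  have hcomm : Commute z w := by
    have h := K.conj_z hwM
    show z * w = w * z
    calc z * w = w * (w⁻¹ * z * w) := by group
      _ = w * z := by rw [h]
  have hz2 : z ^ 2 = 1 := by
    rw [hz, ← pow_mul]; exact c.pow_g_eq_one.mpr (by rw [mul_comm, ← K.even_e])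
  have hwl : w ^ ℓ = 1 := hw ▸ pow_orderOf_eq_one w
  have hodd := hℓ.eq_two_or_odd.resolve_left hℓ2
  have hp5 := K.five_le
  have h := Restrict.two_of_zeros (isCharacter_irr K.χ) (v := z * w) (h := ℓ)
    (by rw [hcomm.mul_pow, pow_mul, hz2, one_pow, one_mul, mul_comm, pow_mul, hwl, one_pow])
    hℓ.pos K.hε (fun k hk hk0 hkl => ?_) ?_ (DegreeBounds.Basic.charDegree_irr K.χ)
  · exact hℓ.one_lt.ne' h
  · have h2k : ¬ ℓ ∣ k * 2 := by
      intro hd
      rcases hℓ.dvd_mul.mp hd with h1 | h1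
      · obtain ⟨j, rfl⟩ := h1
        rcases Nat.lt_or_ge j 2 with hj | hj
        · interval_cases j <;> simp_all
        · have := Nat.mul_le_mul_left ℓ hj; omega
      · exact hℓ2 ((Nat.prime_dvd_prime_iff_eq hℓ Nat.prime_two).mp h1)
    have hsq : ((z * w) ^ k) ^ 2 = w ^ (k * 2) := by
      rw [← pow_mul, hcomm.mul_pow, mul_comm k 2, pow_mul z, hz2, one_pow, one_mul, mul_comm 2 k]
    have hdl : ℓ ∣ orderOf ((z * w) ^ k) := by
      have h1 : orderOf (w ^ (k * 2)) = ℓ := by
        rw [Nat.Coprime.orderOf_pow (by rw [hw]; exact (hℓ.coprime_iff_not_dvd.mpr h2k)), hw]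
      rw [← h1, ← hsq]
      exact orderOf_pow_dvd 2
    refine K.hfree _ ?_ (K.not_fixed hC hP ?_)
    · intro hpd
      have h1 : orderOf ((z * w) ^ k) ∣ 2 * ℓ := orderOf_dvd_of_pow_eq_one (by
        rw [← pow_mul, hcomm.mul_pow, show k * (2 * ℓ) = 2 * (k * ℓ) by ring, pow_mul, hz2,
          one_pow, one_mul, show 2 * (k * ℓ) = ℓ * (2 * k) by ring, pow_mul, hwl, one_pow])
      rcases (Fact.out : p.Prime).dvd_mul.mp (hpd.trans h1) with h' | h'
      · have := Nat.le_of_dvd two_pos h'; omega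
      · exact hℓp ((Nat.prime_dvd_prime_iff_eq (Fact.out : p.Prime) hℓ).mp h').symm
    · intro hd
      rcases hℓ.dvd_mul.mp (hdl.trans hd) with h' | h'
      · exact hℓe h'
      · exact hℓp ((Nat.prime_dvd_prime_iff_eq hℓ (Fact.out : p.Prime)).mp h')
  · rw [hcomm.mul_pow, hwl, mul_one]
    have : z ^ ℓ = z := by
      conv_lhs => rw [← Nat.div_add_mod ℓ 2, hodd, pow_add, pow_mul, hz2, one_pow, one_mul, pow_one]
    rw [this]
    exact K.hinv

include hC hP in
/-- The two groups. -/
theorem Config.finish :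
    (p = 2 * c.e + 1 ∧ Nat.card (Sylow p G) = p + 1) ∨
      (orderOf c.g = 2 ∧ 5 ≤ p ∧ Nat.card (Subgroup.centralizer ({c.g} : Set G)) = p - 1 ∧
        (∀ m ∈ Subgroup.centralizer ({c.g} : Set G), m * m = 1) ∧
        ∀ i : G, orderOf i = 2 → IsConj c.g i) := by
  classical
  have hp := (Fact.out : p.Prime)
  have hp5 := K.five_le
  have he2 := K.two_le_e
  have ht2 := K.two_le_t
  have hM := c.card_M hC hP K.hn K.hfull he2
  rw [← K.ht] at hM
  have ⟨t', ht'⟩ := K.hteven
  rcases Nat.eq_zero_or_pos K.a with ha | ha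
  · right
    have he : c.e = 2 := by rw [K.he, ha]; ring
    have hg : orderOf c.g = 2 := by rw [c.ord_g]; exact he
    have hf : c.e / 2 = 1 := by omega
    have hCM : Subgroup.centralizer ({c.g} : Set G) = c.M := by
      refine le_antisymm (fun m hm => ?_) (fun m hm => ?_)
      · refine c.mem_M_of_commute hC hP K.hn K.hfull he2 K.hr (k := 1)
          (fun h => by have := Nat.le_of_dvd one_pos h; omega) ?_
        rw [pow_one]
        exact Subgroup.mem_centralizer_singleton_iff.mp hm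
      · rw [Subgroup.mem_centralizer_singleton_iff]
        have h := K.conj_z hm
        rw [hf, pow_one] at h
        calc m * c.g = m * (m⁻¹ * c.g * m) := by rw [h]
          _ = c.g * m := by group
    refine ⟨hg, hp5, ?_, ?_, fun i hi => ?_⟩
    · rw [hCM, hM]; have := K.hp; rw [mul_comm]; omega
    · intro m hm
      rw [hCM] at hm
      have h4 : ¬ 4 ∣ c.e := by rw [he]; norm_num
      have hdvd : orderOf m ∣ c.e * K.t := hM ▸ Subgroup.orderOf_dvd_natCard _ hm
      by_cases hex : ∃ ℓ, ℓ.Prime ∧ ℓ ≠ 2 ∧ ℓ ∣ orderOf m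
      · obtain ⟨ℓ, hℓ, hℓ2, hℓd⟩ := hex
        have hw : orderOf (m ^ (orderOf m / ℓ)) = ℓ := orderOf_pow_orderOf_div
          (orderOf_pos m).ne' hℓd
        have hℓe : ¬ ℓ ∣ c.e := by
          rw [he]; exact fun h => hℓ2 ((Nat.prime_dvd_prime_iff_eq hℓ Nat.prime_two).mp h)
        refine (K.not_odd_prime hC hP hℓ hℓ2 ?_ hℓe (pow_mem hm _) hw).elim
        rintro rfl
        have h1 := hℓd.trans hdvd
        have h2 : ℓ ≤ c.e * K.t := Nat.le_of_dvd (Nat.mul_pos c.e_pos (by omega)) h1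
        have := K.hp
        rw [mul_comm] at h2
        rcases hℓ.dvd_mul.mp h1 with h' | h'
        · exact hℓe h'
        · have := Nat.le_of_dvd (by omega) h'
          have : K.t ≤ K.t * c.e := Nat.le_mul_of_pos_right _ c.e_pos
          omega
      · push Not at hex
        have hpow : ∃ j, orderOf m = 2 ^ j :=
          ⟨_, Nat.eq_prime_pow_of_unique_prime_dvd (orderOf_pos m).ne'
            fun {q} hq hqd => by_contra fun h => hex q hq h hqd⟩
        obtain ⟨j, hj⟩ := hpow
        rcases Nat.lt_or_ge j 2 with hj2 | hj2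
        · rw [← pow_two, ← orderOf_dvd_iff_pow_eq_one, hj]
          calc 2 ^ j ∣ 2 ^ 1 := pow_dvd_pow 2 (by omega)
            _ = 2 := pow_one 2
        · have h4d : 4 ∣ orderOf m := by
            rw [hj]; exact (show 4 = 2 ^ 2 by norm_num) ▸ pow_dvd_pow 2 hj2
          exact (K.not_order_four hC hP h4
            (orderOf_pow_orderOf_div (orderOf_pos m).ne' h4d)).elim
    · have := K.isConj_of_involution hC hP hi
      rwa [hf, pow_one] at this
  · rcases Nat.lt_or_ge K.t 4 with ht4 | ht4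
    · left
      have ht : K.t = 2 := by omega
      have := K.hp
      rw [ht] at this
      refine ⟨this, ?_⟩
      rw [K.hn, show K.r = 1 by have := K.ht; omega, one_mul]
    exfalso
    have he6 : 6 ≤ c.e := by
      rw [K.he]
      have := Nat.mul_le_mul (show 1 ≤ K.a by omega) ht4
      omega
    by_cases hex : ∃ ℓ, ℓ.Prime ∧ ℓ ≠ 2 ∧ ℓ ∣ K.t
    · obtain ⟨ℓ, hℓ, hℓ2, hℓd⟩ := hex
      haveI := Fact.mk hℓ
      obtain ⟨w, hw⟩ := exists_prime_orderOf_dvd_card' (G := c.M) ℓ
        (hM ▸ hℓd.trans (dvd_mul_left _ _))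
      have hℓe : ¬ ℓ ∣ c.e := by
        rw [K.he, Nat.dvd_add_left (hℓd.trans (dvd_mul_left _ _))]
        exact fun h => hℓ2 ((Nat.prime_dvd_prime_iff_eq hℓ Nat.prime_two).mp h)
      refine K.not_odd_prime hC hP hℓ hℓ2 ?_ hℓe w.2 (by rw [Subgroup.orderOf_coe, hw])
      rintro rfl
      have := Nat.le_of_dvd (by omega) hℓd
      have := K.hp
      have : K.t ≤ K.t * c.e := Nat.le_mul_of_pos_right _ c.e_pos
      omega
    · push Not at hex
      have h4t : 4 ∣ K.t := by
        obtain ⟨j, hj⟩ : ∃ j, K.t = 2 ^ j :=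
          ⟨_, Nat.eq_prime_pow_of_unique_prime_dvd (by omega)
            fun {q} hq hqd => by_contra fun h => hex q hq h hqd⟩
        have hj2 : 2 ≤ j := by
          by_contra hc
          rw [hj] at ht4
          have : 2 ^ j ≤ 2 ^ 1 := Nat.pow_le_pow_right two_pos (by omega)
          omega
        rw [hj]; exact (show 4 = 2 ^ 2 by norm_num) ▸ pow_dvd_pow 2 hj2
      have h4e : ¬ 4 ∣ c.e := by
        rw [K.he, Nat.dvd_add_left (h4t.trans (dvd_mul_left _ _))]
        norm_num
      have h8 : 2 ^ 3 ∣ Nat.card c.M := by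
        rw [hM, show (2 : ℕ) ^ 3 = 2 * 4 by norm_num]
        exact Nat.mul_dvd_mul ⟨_, K.even_e⟩ h4t
      haveI := Fact.mk Nat.prime_two
      obtain ⟨T, hT⟩ := Sylow.exists_subgroup_card_pow_prime 2 h8
      have := Fintype.ofFinite T
      have hexp : ∀ y : T, ((y : c.M) : G) * ((y : c.M) : G) = 1 := by
        intro y
        have hd : orderOf ((y : c.M) : G) ∣ 2 ^ 3 := by
          rw [Subgroup.orderOf_coe, Subgroup.orderOf_coe, ← hT]; exact orderOf_dvd_natCard y
        obtain ⟨j, hj, hjo⟩ := (Nat.dvd_prime_pow Nat.prime_two).mp hd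
        rcases Nat.lt_or_ge j 2 with hj2 | hj2
        · rw [← pow_two, ← orderOf_dvd_iff_pow_eq_one, hjo]
          calc 2 ^ j ∣ 2 ^ 1 := pow_dvd_pow 2 (by omega)
            _ = 2 := pow_one 2
        · have h4d : 4 ∣ orderOf ((y : c.M) : G) := by
            rw [hjo]; exact (show 4 = 2 ^ 2 by norm_num) ▸ pow_dvd_pow 2 hj2
          exact (K.not_order_four hC hP h4e
            (orderOf_pow_orderOf_div (orderOf_pos _).ne' h4d)).elim
      set z := c.g ^ (c.e / 2) with hz
      have hsmall : ∀ y : T, ((y : c.M) : G) ∈ Subgroup.zpowers c.g →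
          ((y : c.M) : G) = 1 ∨ ((y : c.M) : G) = z := by
        intro y hy
        rw [← mem_powers_iff_mem_zpowers] at hy
        obtain ⟨w, hw⟩ := hy
        have hw' : c.g ^ w = ((y : c.M) : G) := hw
        have h2 : c.e ∣ 2 * w := c.pow_g_eq_one.mp (by
          rw [mul_comm, pow_mul, hw', pow_two]; exact hexp y)
        obtain ⟨v, hv⟩ := h2
        have he' := K.even_e
        have hwv : w = c.e / 2 * v := by
          refine Nat.eq_of_mul_eq_mul_left two_pos ?_
          rw [hv, ← mul_assoc, ← he']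
        rcases Nat.even_or_odd v with ⟨v', hv'⟩ | ⟨v', hv'⟩
        · left
          rw [← hw']
          refine c.pow_g_eq_one.mpr ⟨v', ?_⟩
          calc w = c.e / 2 * (v' + v') := by rw [hwv, hv']
            _ = 2 * (c.e / 2) * v' := by ring
            _ = _ := by rw [← he']
        · right
          rw [← hw', hz]
          have h3 : w = c.e * v' + c.e / 2 := by
            calc w = c.e / 2 * (2 * v' + 1) := by rw [hwv, hv']
              _ = 2 * (c.e / 2) * v' + c.e / 2 := by ring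
              _ = _ := by rw [← he']
          rw [h3, pow_add, c.pow_g_eq_one.mpr (dvd_mul_right _ _), one_mul]
      have hpick : ∀ S : Finset G, S.card ≤ 4 → ∃ y : T, ((y : c.M) : G) ∉ S := by
        intro S hS
        by_contra hc
        push Not at hc
        have h := Finset.card_le_card_of_injOn (s := (Finset.univ : Finset T))
          (fun y => ((y : c.M) : G)) (fun y _ => hc y)
          (fun _ _ _ _ h => Subtype.ext (Subtype.ext h))
        rw [Finset.card_univ, ← Nat.card_eq_fintype_card, hT] at h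
        omega
      obtain ⟨y₁, hy₁⟩ := hpick {1, z} (by
        have := Finset.card_le_two (a := (1 : G)) (b := z); omega)
      obtain ⟨y₂, hy₂⟩ := hpick {1, z, ((y₁ : c.M) : G), ((y₁ : c.M) : G) * z} Finset.card_le_four
      simp only [Finset.mem_insert, Finset.mem_singleton, not_or] at hy₁ hy₂
      have hn1 : ((y₁ : c.M) : G) ∉ Subgroup.zpowers c.g := fun h => by
        rcases hsmall y₁ h with h | h <;> simp_all
      have hn2 : ((y₂ : c.M) : G) ∉ Subgroup.zpowers c.g := fun h => by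
        rcases hsmall y₂ h with h | h <;> simp_all
      have hn3 : ((((y₁ * y₂ : T)) : c.M) : G) ∉ Subgroup.zpowers c.g := fun h => by
        rcases hsmall _ h with h | h <;> simp only [Subgroup.coe_mul] at h
        · refine hy₂.2.2.1 ?_
          calc ((y₂ : c.M) : G) = ((y₁ : c.M) : G) * (((y₁ : c.M) : G) * ((y₂ : c.M) : G)) := by
                rw [← mul_assoc, hexp y₁, one_mul]
            _ = _ := by rw [h, mul_one]
        · refine hy₂.2.2.2 ?_
          calc ((y₂ : c.M) : G) = ((y₁ : c.M) : G) * (((y₁ : c.M) : G) * ((y₂ : c.M) : G)) := by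
                rw [← mul_assoc, hexp y₁, one_mul]
            _ = _ := by rw [h]
      have hkmul : ∀ a b : c.M, c.kappa (a * b) ≡ c.kappa a * c.kappa b [MOD c.e] := by
        intro a b
        have h : c.g ^ c.kappa (a * b) = c.g ^ (c.kappa a * c.kappa b) := by
          rw [← c.kappa_spec, Subgroup.coe_mul]
          calc ((a : G) * b)⁻¹ * c.g * ((a : G) * b) = (b : G)⁻¹ * ((a : G)⁻¹ * c.g * a) * b := by
                group
            _ = ((b : G)⁻¹ * c.g * b) ^ c.kappa a := by
                rw [c.kappa_spec]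
                conv_rhs => rw [show (b : G)⁻¹ * c.g * b = (b : G)⁻¹ * c.g * ((b : G)⁻¹)⁻¹ by
                  rw [inv_inv], conj_pow, inv_inv]
            _ = _ := by rw [c.kappa_spec, ← pow_mul, mul_comm]
        rwa [pow_eq_pow_iff_modEq, c.ord_g] at h
      have hneg : ∀ y : T, ((y : c.M) : G) ∉ Subgroup.zpowers c.g →
          (c.e : ℤ) ∣ 2 * ((c.kappa (y : c.M) : ℤ) + 1) := by
        intro y hy
        have h1 : c.kappa (y : c.M) * c.kappa (y : c.M) ≡ 1 [MOD c.e] := by
          refine (hkmul _ _).symm.trans ?_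
          have h : c.g ^ c.kappa ((y : c.M) * (y : c.M)) = c.g ^ 1 := by
            rw [← c.kappa_spec, Subgroup.coe_mul, hexp, inv_one, one_mul, mul_one, pow_one]
          rwa [pow_eq_pow_iff_modEq, c.ord_g] at h
        have h2 : (c.kappa (y : c.M) + 1) * c.kappa (y : c.M) ≡ c.kappa (y : c.M) + 1 [MOD c.e] := by
          rw [add_mul, one_mul]
          calc _ ≡ 1 + c.kappa (y : c.M) [MOD c.e] := h1.add_right _
            _ = _ := add_comm _ _
        exact_mod_cast K.hirr (y : c.M) hy _ h2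
      obtain ⟨u1, hu1⟩ := hneg y₁ hn1
      obtain ⟨u2, hu2⟩ := hneg y₂ hn2
      obtain ⟨u3, hu3⟩ := hneg (y₁ * y₂) hn3
      have h12 := (Nat.modEq_iff_dvd.mp (hkmul (y₁ : c.M) (y₂ : c.M)))
      obtain ⟨u4, hu4⟩ := h12
      rw [Subgroup.coe_mul] at hu3
      push_cast at hu4
      have h4 : (c.e : ℤ) ∣ 4 := ⟨u3 + 2 * u4 - (c.kappa (y₂ : c.M) : ℤ) * u1 + u2, by
        linear_combination hu3 + 2 * hu4 - (c.kappa (y₂ : c.M) : ℤ) * hu1 + hu2⟩
      have := Int.le_of_dvd (by norm_num) h4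
      omega

end Cfsg.Agent.Lib.FirstPower.PerfectFew
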