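import Cfsg.Agent.Lib.FirstPower.PerfectFew.Frobenius
import Mathlib.GroupTheory.GroupAction.Quotient

/-!
# The functions induced from `N(⟨x⟩)`
-/

namespace Cfsg.Agent.Lib.FirstPower.PerfectFew

open Periods Average Consequences Cfsg.Agent.Lib.Characters.Basic Cfsg.Agent.Lib.Induced.Basic
open Family (pow_eq_one_of_order)
open MulAction
open scoped ComplexConjugate

universe u

variable {p : ℕ} [Fact p.Prime] {G : Type u} [Group G] [Fintype G] {x : G} {hx : orderOf x = p}
variable {P : Sylow p G}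

section

variable (hP : (P : Subgroup G) = Subgroup.zpowers x)
include hP

theorem smul_P_iff {y : G} : y • P = P ↔ y ∈ Subgroup.normalizer (Subgroup.zpowers x : Set G) := by
  rw [Sylow.smul_eq_iff_mem_normalizer,
    show (↑P : Set G) = (Subgroup.zpowers x : Set G) from congrArg SetLike.coe hP]

theorem pow_smul_P (a : ℕ) : x ^ a • P = P :=
  (smul_P_iff hP).mpr (Subgroup.le_normalizer (pow_mem (Subgroup.mem_zpowers x) _))

theorem eq_P_of_smul (hx : orderOf x = p) {z : ZMod p} (hz : z ≠ 0) {Q : Sylow p G}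
    (hQ : x ^ z.val • Q = Q) : Q = P := by
  have hxp := pow_eq_one_of_order hx
  have hmem : Subgroup.zpowers x ≤ Subgroup.normalizer (Q : Set G) := by
    refine Subgroup.zpowers_le.mpr ?_
    have := pow_mem (Sylow.smul_eq_iff_mem_normalizer.mp hQ) z⁻¹.val
    rwa [← pow_val_mul hxp, mul_inv_cancel₀ hz, pow_val_one hxp] at this
  have h := (IsPGroup.of_card (n := 1) (G := Subgroup.zpowers x)
    (by rw [Nat.card_zpowers, hx, pow_one] : Nat.card (Subgroup.zpowers x) = p ^ 1)
      ).inf_normalizer_sylow Q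
  rw [inf_of_le_left hmem] at h
  exact Sylow.ext (P.is_maximal' Q.isPGroup' (hP ▸ inf_eq_left.mp h.symm))

theorem smul_mem_normalizer {y : G} {Q : Sylow p G} (hy : y • Q = Q) :
    ∃ d : G, d • P = Q ∧ d⁻¹ * y * d ∈ Subgroup.normalizer (Subgroup.zpowers x : Set G) := by
  obtain ⟨d, hd⟩ := MulAction.exists_smul_eq G P Q
  refine ⟨d, hd, (smul_P_iff hP).mp ?_⟩
  rw [mul_smul, mul_smul, hd, hy, ← hd, inv_smul_smul]

end

variable (c : Comp hx) (hC : Subgroup.centralizer ({x} : Set G) = Subgroup.zpowers x)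

include hC in
theorem Comp.card_normalizer :
    Nat.card (Subgroup.normalizer (Subgroup.zpowers x : Set G)) = c.e * p := by
  rw [Consequences.card_normalizer hx, hC, Nat.card_zpowers, hx]

/-- The function induced from the linear character `j` of `N`. -/
noncomputable def Comp.theta (j : ℕ) : G → ℂ :=
  Cfsg.indFun (Subgroup.normalizer (Subgroup.zpowers x : Set G))
    (fun n => (c.mu hC j n : ℂ))

theorem Comp.theta_classFun (j : ℕ) : Cfsg.IsClassFunction G (c.theta hC j) :=
  isClassFunction_indFun _ _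

theorem Comp.exists_mult (j : ℕ) (χ : Cfsg.IrrCharacter G) :
    ∃ m : ℕ, Cfsg.classInner (c.theta hC j) χ = m := by
  classical
  rw [Comp.theta, frobenius_reciprocity _ _ (isClassFunction_irr χ)]
  exact exists_classInner_nat (Induced.Character.isCharacter_hom (c.mu hC j))
    (isCharacter_comp (Subgroup.normalizer (Subgroup.zpowers x : Set G)).subtype (isCharacter_irr χ))

/-- Inner products with the induced functions. -/
theorem Comp.inner_theta {F : G → ℂ} (hF : Cfsg.IsClassFunction G F) (j : ℕ) :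
    ((c.e * p : ℕ) : ℂ) * Cfsg.classInner (c.theta hC j) F =
      (∑ z : ZMod p, conj (F (x ^ z.val))) +
        (p : ℂ) * ∑ k ∈ (Finset.range c.e).erase 0, conj (F (c.g ^ k)) * c.ω ^ (j * k) := by
  classical
  rw [Comp.theta, frobenius_reciprocity _ _ hF, Cfsg.classInner, c.card_normalizer hC,
    ← mul_assoc, mul_inv_cancel₀, one_mul,
    ← c.sum_normalizer hC (F := fun y => conj (F y)) (fun a b => by simp [hF a b]) j]
  · exact Finset.sum_congr rfl fun n _ => mul_comm _ _
  · exact Nat.cast_ne_zero.mpr (Nat.mul_pos c.e_pos (Fact.out : p.Prime).pos).ne'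

variable (hP : (P : Subgroup G) = Subgroup.zpowers x)

include hP in
theorem Comp.theta_one (j : ℕ) : c.theta hC j 1 = (Nat.card (Sylow p G) : ℂ) := by
  rw [Comp.theta, indFun_one, P.card_eq_index_normalizer, map_one, Units.val_one, mul_one,
    show (↑P : Set G) = (Subgroup.zpowers x : Set G) from congrArg SetLike.coe hP]

include hP in
theorem Comp.theta_of_free (j : ℕ) {y : G} (hy : ∀ Q : Sylow p G, y • Q ≠ Q) :
    c.theta hC j y = 0 := by
  refine indFun_eq_zero_of_forall_not_mem _ _ fun d hd => hy (d • P) ?_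
  have := (smul_P_iff hP).mpr hd
  rwa [mul_smul, mul_smul, inv_smul_eq_iff] at this

include hP in
theorem Comp.theta_pow_x (j : ℕ) (w : (ZMod p)ˣ) :
    c.theta hC j (x ^ (w : ZMod p).val) = 1 := by
  classical
  have hxp := pow_eq_one_of_order hx
  rw [Comp.theta, indFun_apply]
  have hterm : ∀ d : G, (if hd : d⁻¹ * x ^ (w : ZMod p).val * d ∈
        Subgroup.normalizer (Subgroup.zpowers x : Set G) then
        (c.mu hC j ⟨_, hd⟩ : ℂ) else 0) =
      if d ∈ Subgroup.normalizer (Subgroup.zpowers x : Set G) then 1 else 0 := by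
    intro d
    by_cases hdN : d ∈ Subgroup.normalizer (Subgroup.zpowers x : Set G)
    · have hmem : d⁻¹ * x ^ (w : ZMod p).val * d ∈ Subgroup.zpowers x := by
        have := (Subgroup.mem_normalizer_iff.mp (inv_mem hdN) (x ^ (w : ZMod p).val)).mp
          (pow_mem (Subgroup.mem_zpowers x) _)
        rwa [inv_inv] at this
      obtain ⟨a, ha⟩ := (mem_zpowers_iff_val hxp).mp hmem
      rw [if_pos hdN, dif_pos (Subgroup.le_normalizer hmem), c.mu_apply,
        c.ω_pow_congr ((c.lg_eq hC (a := a) (k := 0) (by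
          show d⁻¹ * x ^ (w : ZMod p).val * d = _
          rw [← ha, pow_zero, mul_one])).mul_left j), mul_zero, pow_zero]
    · rw [if_neg hdN, dif_neg]
      intro hmem
      have h1 := (smul_P_iff hP).mpr hmem
      rw [mul_smul, mul_smul, inv_smul_eq_iff] at h1
      exact hdN ((smul_P_iff hP).mp (eq_P_of_smul hP hx w.ne_zero h1))
  rw [Finset.sum_congr rfl fun d _ => hterm d, Finset.sum_boole, ← Fintype.card_subtype,
    ← Nat.card_eq_fintype_card, inv_mul_cancel₀]
  exact Nat.cast_ne_zero.mpr Nat.card_pos.ne'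

include hP in
theorem Comp.theta_zero : c.theta hC 0 =
    fun y => (Nat.card (fixedBy (Sylow p G) y) : ℂ) := by
  rw [card_fixedBy_eq_indFun (Sylow p G) P]
  have hst : stabilizer G P = Subgroup.normalizer (Subgroup.zpowers x : Set G) := by
    ext y
    rw [mem_stabilizer_iff, smul_P_iff hP]
  have h : ∀ H K : Subgroup G, H = K →
      Cfsg.indFun H (fun _ => (1 : ℂ)) = Cfsg.indFun K (fun _ => 1) := fun H K e => by
    subst e; rfl
  rw [h _ _ hst, Comp.theta]
  congr 1
  funext n
  rw [c.mu_apply, zero_mul, pow_zero]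

include hC hP in
/-- A power of `g` fixes at most one point in each orbit of `⟨x⟩`. -/
theorem Comp.card_fixed_le {r : ℕ} (hn : Nat.card (Sylow p G) = r * p + 1) {k : ℕ}
    (hk : ¬ c.e ∣ k) : Nat.card (fixedBy (Sylow p G) (c.g ^ k)) ≤ r + 1 := by
  classical
  have hxp := pow_eq_one_of_order hx
  have := Fintype.ofFinite (Sylow p G)
  let A : Finset (Sylow p G) := Finset.univ.filter fun Q => Q ≠ P ∧ c.g ^ k • Q = Q
  have hA : A.card * p ≤ r * p := by
    have h := Finset.card_le_card_of_injOn (s := A ×ˢ (Finset.univ : Finset (ZMod p)))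
      (t := Finset.univ.erase P) (fun Qz => x ^ Qz.2.val • Qz.1) ?_ ?_
    · rwa [Finset.card_product, Finset.card_univ, ZMod.card, Finset.card_erase_of_mem
        (Finset.mem_univ _), Finset.card_univ, ← Nat.card_eq_fintype_card, hn,
        Nat.add_sub_cancel] at h
    · intro Qz hQz
      simp only [Finset.coe_product, Set.mem_prod, Finset.mem_coe, A, Finset.mem_filter] at hQz
      simp only [Finset.mem_coe, Finset.mem_erase, Finset.mem_univ, and_true]
      intro h
      exact hQz.1.2.1 (smul_left_cancel _ (h.trans (pow_smul_P hP Qz.2.val).symm))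
    · rintro ⟨Q, a⟩ hQ ⟨Q', b⟩ hQ' h
      simp only [Finset.coe_product, Set.mem_prod, Finset.mem_coe, A, Finset.mem_filter] at hQ hQ'
      have h' : x ^ a.val • Q = x ^ b.val • Q' := h
      have hQb : Q' = x ^ (a - b).val • Q := by
        apply smul_left_cancel (x ^ b.val)
        rw [← mul_smul, ← pow_val_add hxp, add_sub_cancel, h']
      by_cases hab : a = b
      · subst hab
        rw [sub_self, ZMod.val_zero, pow_zero, one_smul] at hQb
        rw [hQb]
      · exfalso
        have h1 : x ^ (((c.u ^ k : (ZMod p)ˣ) : ZMod p) * (a - b)).val • Q =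
            x ^ (a - b).val • Q := by
          have := hQ'.1.2.2
          rw [hQb] at this
          conv_lhs at this => rw [← mul_smul,
            show c.g ^ k * x ^ (a - b).val = c.g ^ k * x ^ (a - b).val * (c.g ^ k)⁻¹ * c.g ^ k
              by group, c.conj_pow_pow, mul_smul, hQ.1.2.2]
          exact this
        set z := ((c.u ^ k : (ZMod p)ˣ) : ZMod p) * (a - b) - (a - b) with hz
        have h2 : x ^ z.val • Q = Q := by
          apply smul_left_cancel (x ^ (a - b).val)
          rw [← mul_smul, ← pow_val_add hxp, hz, add_sub_cancel, h1]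
        refine hQ.1.2.1 (eq_P_of_smul hP hx ?_ h2)
        rw [hz, show ((c.u ^ k : (ZMod p)ˣ) : ZMod p) * (a - b) - (a - b) =
          (((c.u ^ k : (ZMod p)ˣ) : ZMod p) - 1) * (a - b) by ring]
        exact mul_ne_zero (sub_ne_zero.mpr fun h => hk (c.pow_u_eq_one.mp (Units.ext h)))
          (sub_ne_zero.mpr hab)
  have hA' : A.card ≤ r := Nat.le_of_mul_le_mul_right hA (Fact.out : p.Prime).pos
  rw [Nat.card_eq_fintype_card, ← Set.toFinset_card]
  refine le_trans (Finset.card_le_card (t := insert P A) fun Q hQ => ?_)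
    ((Finset.card_insert_le _ _).trans (Nat.add_le_add_right hA' 1))
  rw [Set.mem_toFinset, mem_fixedBy] at hQ
  by_cases hQP : Q = P
  · exact hQP ▸ Finset.mem_insert_self _ _
  · exact Finset.mem_insert_of_mem (Finset.mem_filter.mpr ⟨Finset.mem_univ _, hQP, hQ⟩)

/-! ## When every nontrivial power of `g` fixes `r + 1` points -/

variable {r : ℕ} (hn : Nat.card (Sylow p G) = r * p + 1)
  (hfull : ∀ k, ¬ c.e ∣ k → Nat.card (fixedBy (Sylow p G) (c.g ^ k)) = r + 1)

/-- The normalizer of the complement. -/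
abbrev Comp.M : Subgroup G := Subgroup.normalizer (Subgroup.zpowers c.g : Set G)

include hfull in
theorem Comp.fixed_pow_iff {k : ℕ} (hk : ¬ c.e ∣ k) (Q : Sylow p G) :
    c.g ^ k • Q = Q ↔ c.g • Q = Q := by
  have hall : ∀ (R : Sylow p G) (n : ℕ), c.g • R = R → c.g ^ n • R = R := by
    intro R n h
    induction n with
    | zero => rw [pow_zero, one_smul]
    | succ n ih => rw [pow_succ, mul_smul, h, ih]
  have hsub : fixedBy (Sylow p G) c.g ⊆ fixedBy (Sylow p G) (c.g ^ k) := fun R hR => hall R k hR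
  have h1 : ¬ c.e ∣ 1 := fun h => hk ((Nat.dvd_one.mp h) ▸ one_dvd k)
  have heq := Set.eq_of_subset_of_ncard_le hsub (by
    rw [← Nat.card_coe_set_eq, ← Nat.card_coe_set_eq, hfull k hk]
    exact le_of_eq (by rw [← hfull 1 h1, pow_one])) (Set.toFinite _)
  show Q ∈ fixedBy (Sylow p G) (c.g ^ k) ↔ Q ∈ fixedBy (Sylow p G) c.g
  rw [heq]

include hC hP in
/-- The transitive action of `N(⟨g⟩)` on the fixed points of `g`. -/
theorem Comp.exists_smul {Q : Sylow p G} (hQ : c.g • Q = Q) (he : 2 ≤ c.e) :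
    ∃ m ∈ c.M, m • P = Q := by
  have hxp := pow_eq_one_of_order hx
  obtain ⟨d, hd, hmem⟩ := smul_mem_normalizer hP hQ
  obtain ⟨a, k, hk, hak⟩ := c.exists_elem hC hmem
  have hord : orderOf (d⁻¹ * c.g * d) = c.e := by
    rw [show d⁻¹ * c.g * d = MulAut.conj d⁻¹ c.g by simp, MulEquiv.orderOf_eq, c.ord_g]
  have hk0 : ¬ c.e ∣ k := by
    intro h
    rw [Nat.eq_zero_of_dvd_of_lt h hk, pow_zero, mul_one] at hak
    rw [hak] at hord
    have : c.e ∣ p := hord ▸ orderOf_dvd_of_pow_eq_one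
      (by rw [← pow_mul, mul_comm, pow_mul, hxp, one_pow])
    rcases (Nat.dvd_prime (Fact.out : p.Prime)).mp this with h' | h'
    · omega
    · have := c.ord_u ▸ (orderOf_le_card_univ (x := c.u))
      rw [ZMod.card_units] at this
      have hp := (Fact.out : p.Prime).two_le
      simp only [Comp.e] at h'
      omega
  obtain ⟨b, hb⟩ := c.exists_conj hk0 a
  refine ⟨d * x ^ b.val, ?_, by rw [mul_smul, pow_smul_P hP, hd]⟩
  rw [← inv_inv (d * x ^ b.val)]
  refine inv_mem (Subgroup.mem_normalizer_iff_map_conj_eq.mpr ?_)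
  refine Subgroup.eq_of_le_of_card_ge ?_ ?_
  · rw [MonoidHom.map_zpowers, Subgroup.zpowers_le]
    show (d * x ^ b.val)⁻¹ * c.g * ((d * x ^ b.val)⁻¹)⁻¹ ∈ Subgroup.zpowers c.g
    rw [show (d * x ^ b.val)⁻¹ * c.g * ((d * x ^ b.val)⁻¹)⁻¹ =
      (x ^ b.val)⁻¹ * (d⁻¹ * c.g * d) * x ^ b.val by group, hak, ← hb]
    rw [show (x ^ b.val)⁻¹ * (x ^ b.val * c.g ^ k * (x ^ b.val)⁻¹) * x ^ b.val = c.g ^ k by group]
    exact pow_mem (Subgroup.mem_zpowers _) _
  · rw [MonoidHom.map_zpowers, Nat.card_zpowers, Nat.card_zpowers]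
    exact (orderOf_injective (MulAut.conj _).toMonoidHom (MulAut.conj _).injective _).ge

theorem Comp.zpowers_le_M : Subgroup.zpowers c.g ≤ c.M := Subgroup.le_normalizer

theorem Comp.conj_mem_zpowers {m : G} (hm : m ∈ c.M) :
    ∃ k : ℕ, m⁻¹ * c.g * m = c.g ^ k := by
  have := (Subgroup.mem_normalizer_iff.mp (inv_mem hm) c.g).mp (Subgroup.mem_zpowers c.g)
  rw [inv_inv, ← mem_powers_iff_mem_zpowers] at this
  obtain ⟨k, hk⟩ := this
  exact ⟨k, hk.symm⟩

theorem Comp.smul_fix {m : G} (hm : m ∈ c.M) {Q : Sylow p G} (hQ : c.g • Q = Q) :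
    c.g • (m • Q) = m • Q := by
  obtain ⟨k, hk⟩ := c.conj_mem_zpowers hm
  have hall : ∀ n : ℕ, c.g ^ n • Q = Q := by
    intro n
    induction n with
    | zero => rw [pow_zero, one_smul]
    | succ n ih => rw [pow_succ, mul_smul, hQ, ih]
  rw [← mul_smul, show c.g * m = m * (m⁻¹ * c.g * m) by group, hk, mul_smul, hall]

include hC hP in
theorem Comp.mem_inf (he : 2 ≤ c.e) {m : G} (hm : m ∈ c.M) (hmP : m • P = P) : m ∈ Subgroup.zpowers c.g := by
  have hxp := pow_eq_one_of_order hx
  obtain ⟨a, k, hk, hak⟩ := c.exists_elem hC ((smul_P_iff hP).mp hmP)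
  have hxa : x ^ a.val ∈ c.M := by
    rw [show x ^ a.val = m * (c.g ^ k)⁻¹ by rw [hak]; group]
    exact mul_mem hm (inv_mem (c.zpowers_le_M (pow_mem (Subgroup.mem_zpowers _) _)))
  suffices h : a = 0 by
    rw [hak, h, ZMod.val_zero, pow_zero, one_mul]
    exact pow_mem (Subgroup.mem_zpowers _) _
  obtain ⟨l, hl⟩ := c.conj_mem_zpowers hxa
  by_contra ha
  have he1 : ¬ c.e ∣ 1 := fun h => by
    have := Nat.le_of_dvd one_pos h; omega
  have h2 := c.conj_pow_pow 1 (-a)
  have hinv : (x ^ a.val)⁻¹ = x ^ (-a).val := inv_eq_of_mul_eq_one_right (by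
    rw [← pow_val_add hxp, add_neg_cancel, ZMod.val_zero, pow_zero])
  rw [pow_one, pow_one] at h2
  have h3 : x ^ ((c.u : ZMod p) * a - a).val * c.g ^ 1 = x ^ (0 : ZMod p).val * c.g ^ (l % c.e) := by
    have hl' : c.g ^ (l % c.e) = c.g ^ l := by
      show c.g ^ (l % Nat.card _) = _
      rw [← c.ord_g, pow_mod_orderOf]
    rw [pow_one, ZMod.val_zero, pow_zero, one_mul, hl', ← hl, hinv]
    have h4 := c.conj_pow_pow 1 a
    rw [pow_one, pow_one] at h4
    calc x ^ ((c.u : ZMod p) * a - a).val * c.g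
        = x ^ (-a).val * (x ^ ((c.u : ZMod p) * a).val * c.g) := by
          rw [← mul_assoc, ← pow_val_add hxp]; ring_nf
      _ = x ^ (-a).val * c.g * x ^ a.val := by rw [← h4]; group
  obtain ⟨h5, -⟩ := c.elem_inj (Nat.lt_of_le_of_ne c.e_pos (fun h => he1 (h ▸ dvd_rfl)))
    (Nat.mod_lt _ c.e_pos) h3
  have h6 : ((c.u : ZMod p) - 1) * a = 0 := by rw [sub_mul, one_mul]; exact h5
  rcases mul_eq_zero.mp h6 with h | h
  · exact he1 (c.pow_u_eq_one.mp (by rw [pow_one]; exact Units.ext (sub_eq_zero.mp h)))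
  · exact ha h

include hC hP hn hfull in
theorem Comp.card_M (he : 2 ≤ c.e) : Nat.card c.M = c.e * (r + 1) := by
  classical
  have h1 : ¬ c.e ∣ 1 := fun h => by have := Nat.le_of_dvd one_pos h; omega
  have hPfix : c.g • P = P := (smul_P_iff hP).mpr c.g_mem
  have horb : orbit c.M P = fixedBy (Sylow p G) c.g := by
    ext Q
    constructor
    · rintro ⟨⟨m, hm⟩, rfl⟩
      exact c.smul_fix hm hPfix
    · intro hQ
      obtain ⟨m, hm, h⟩ := c.exists_smul hC hP hQ he
      exact ⟨⟨m, hm⟩, h⟩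
  have hstab : stabilizer c.M P = (Subgroup.zpowers c.g).subgroupOf c.M := by
    ext m
    rw [mem_stabilizer_iff, Subgroup.mem_subgroupOf]
    constructor
    · exact fun h => c.mem_inf hC hP he m.2 h
    · intro h
      obtain ⟨k, hk⟩ := Subgroup.mem_zpowers_iff.mp h
      show (m : G) • P = P
      exact (smul_P_iff hP).mpr (hk ▸ Subgroup.zpow_mem _ c.g_mem k)
  have hcard := Nat.card_congr (MulAction.orbitEquivQuotientStabilizer c.M P)
  rw [horb, show fixedBy (Sylow p G) c.g = fixedBy (Sylow p G) (c.g ^ 1) by rw [pow_one],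
    hfull 1 h1] at hcard
  rw [← (stabilizer c.M P).index_mul_card, Subgroup.index_eq_card, ← hcard, hstab,
    Nat.card_congr (Subgroup.subgroupOfEquivOfLe c.zpowers_le_M).toEquiv, Nat.card_zpowers,
    c.ord_g, mul_comm]

include hC hP hn hfull in
/-- The centralizer of a nontrivial power of `g`. -/
theorem Comp.mem_M_of_commute (he : 2 ≤ c.e) (hr : 1 ≤ r) {k : ℕ} (hk : ¬ c.e ∣ k) {m : G}
    (hm : Commute m (c.g ^ k)) : m ∈ c.M := by
  classical
  have hxp := pow_eq_one_of_order hx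
  have := Fintype.ofFinite (Sylow p G)
  have h1 : ¬ c.e ∣ 1 := fun h => by have := Nat.le_of_dvd one_pos h; omega
  have hperm : ∀ (m : G), Commute m (c.g ^ k) → ∀ Q : Sylow p G, c.g • Q = Q →
      c.g • (m • Q) = m • Q := by
    intro m hm Q hQ
    rw [← c.fixed_pow_iff hfull hk, ← mul_smul, ← hm.eq, mul_smul,
      (c.fixed_pow_iff hfull hk Q).mpr hQ]
  -- a second fixed point
  obtain ⟨Q₀, hQ₀, hQ₀P⟩ : ∃ Q : Sylow p G, c.g • Q = Q ∧ Q ≠ P := by
    have hcard := hfull 1 h1
    rw [pow_one] at hcard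
    have : Nontrivial (fixedBy (Sylow p G) c.g) :=
      Finite.one_lt_card_iff_nontrivial.mp (by omega)
    obtain ⟨⟨Q, hQ⟩, hne⟩ := exists_ne
      (⟨P, (smul_P_iff hP).mpr c.g_mem⟩ : fixedBy (Sylow p G) c.g)
    exact ⟨Q, hQ, fun h => hne (Subtype.ext h)⟩
  have hminv : ∀ Q : Sylow p G, c.g • Q = Q → c.g • (m⁻¹ • Q) = m⁻¹ • Q :=
    hperm m⁻¹ hm.inv_left
  set y := m * c.g * m⁻¹ with hy
  have hyfix : ∀ Q : Sylow p G, c.g • Q = Q → y • Q = Q := by
    intro Q hQ
    rw [hy, mul_smul, mul_smul, hminv Q hQ, smul_inv_smul]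
  have hyN := (smul_P_iff hP).mp (hyfix P ((smul_P_iff hP).mpr c.g_mem))
  obtain ⟨a, l, hl, hal⟩ := c.exists_elem hC hyN
  have ha : a = 0 := by
    have h := hyfix Q₀ hQ₀
    rw [hal, mul_smul] at h
    have hg : ∀ n : ℕ, c.g ^ n • Q₀ = Q₀ := by
      intro n
      induction n with
      | zero => rw [pow_zero, one_smul]
      | succ n ih => rw [pow_succ, mul_smul, hQ₀, ih]
    rw [hg] at h
    by_contra ha
    exact hQ₀P (eq_P_of_smul hP hx ha h)
  rw [ha, ZMod.val_zero, pow_zero, one_mul] at hal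
  refine Subgroup.mem_normalizer_iff_map_conj_eq.mpr (Subgroup.eq_of_le_of_card_ge ?_ ?_)
  · rw [MonoidHom.map_zpowers, Subgroup.zpowers_le]
    show y ∈ Subgroup.zpowers c.g
    rw [hal]
    exact pow_mem (Subgroup.mem_zpowers _) _
  · rw [MonoidHom.map_zpowers, Nat.card_zpowers, Nat.card_zpowers]
    exact (orderOf_injective (MulAut.conj _).toMonoidHom (MulAut.conj _).injective _).ge

/-- The exponent of the action of an element of `N(⟨g⟩)` on `g`. -/
noncomputable def Comp.kappa (m : c.M) : ℕ := (c.conj_mem_zpowers m.2).choose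

theorem Comp.kappa_spec (m : c.M) : (m : G)⁻¹ * c.g * m = c.g ^ c.kappa m :=
  (c.conj_mem_zpowers m.2).choose_spec

include hC hP hn hfull in
/-- The values of the induced functions on powers of `g`. -/
theorem Comp.theta_pow_g [Fintype c.M] (he : 2 ≤ c.e) (j : ℕ) {k : ℕ} (hk : ¬ c.e ∣ k) :
    (c.e : ℂ) * c.theta hC j (c.g ^ k) = ∑ m : c.M, c.ω ^ (j * (k * c.kappa m)) := by
  classical
  set N := Subgroup.normalizer (Subgroup.zpowers x : Set G) with hN
  set e' := Fintype.card {m : c.M // (m : G) ∈ N} with he'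
  have he'' : e' = c.e := by
    rw [he', ← Nat.card_eq_fintype_card, show c.e = Nat.card (Subgroup.zpowers c.g) by
      rw [Nat.card_zpowers, c.ord_g]]
    refine Nat.card_congr
      { toFun := fun m => ⟨m.1.1, c.mem_inf hC hP he m.1.2 ((smul_P_iff hP).mpr m.2)⟩
        invFun := fun h => ⟨⟨h.1, c.zpowers_le_M h.2⟩,
          (Subgroup.zpowers_le.mpr c.g_mem : Subgroup.zpowers c.g ≤ N) h.2⟩
        left_inv := fun _ => rfl
        right_inv := fun _ => rfl }
  -- the summand
  let f : G → ℂ := fun y => if hy : y⁻¹ * c.g ^ k * y ∈ N then (c.mu hC j ⟨_, hy⟩ : ℂ) else 0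
  have hth : c.theta hC j (c.g ^ k) = (Nat.card N : ℂ)⁻¹ * ∑ y : G, f y := by
    rw [Comp.theta, indFun_apply]
  have hfib : ∀ y : G, f y * (Finset.univ.filter fun m : c.M => (m : G)⁻¹ * y ∈ N).card =
      f y * (e' : ℂ) := by
    intro y
    by_cases hy : y⁻¹ * c.g ^ k * y ∈ N
    · congr 2
      have hfix : c.g • (y • P) = y • P := by
        rw [← c.fixed_pow_iff hfull hk]
        have := (smul_P_iff hP).mpr hy
        rwa [mul_smul, mul_smul, inv_smul_eq_iff] at this
      obtain ⟨m₀, hm₀, hm₀P⟩ := c.exists_smul hC hP hfix he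
      have hm₀y : m₀⁻¹ * y ∈ N := (smul_P_iff hP).mp (by rw [mul_smul, ← hm₀P, inv_smul_smul])
      rw [he', Fintype.card_subtype]
      refine Finset.card_bij' (fun m _ => ⟨m₀, hm₀⟩⁻¹ * m) (fun m _ => ⟨m₀, hm₀⟩ * m) ?_ ?_ ?_ ?_
      · intro m hm
        simp only [Finset.mem_filter, Finset.mem_univ, true_and] at hm ⊢
        show m₀⁻¹ * (m : G) ∈ N
        have h2 := mul_mem hm₀y (inv_mem hm)
        rwa [show m₀⁻¹ * y * ((m : G)⁻¹ * y)⁻¹ = m₀⁻¹ * (m : G) by group] at h2
      · intro m hm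
        simp only [Finset.mem_filter, Finset.mem_univ, true_and] at hm ⊢
        show (m₀ * (m : G))⁻¹ * y ∈ N
        rw [show (m₀ * (m : G))⁻¹ * y = (m : G)⁻¹ * (m₀⁻¹ * y) by group]
        exact mul_mem (inv_mem hm) hm₀y
      · intro m _; simp
      · intro m _; simp
    · simp [f, dif_neg hy]
  have hterm : ∀ (m : c.M) (n : N), f ((m : G) * n) = c.ω ^ (j * (k * c.kappa m)) := by
    intro m n
    have heq : ((m : G) * n)⁻¹ * c.g ^ k * ((m : G) * n) =
        (n : G)⁻¹ * c.g ^ (k * c.kappa m) * n := by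
      have : (m : G)⁻¹ * c.g ^ k * m = c.g ^ (k * c.kappa m) := by
        rw [mul_comm k, pow_mul, ← c.kappa_spec]
        conv_rhs => rw [show (m : G)⁻¹ * c.g * m = (m : G)⁻¹ * c.g * ((m : G)⁻¹)⁻¹ by rw [inv_inv],
          conj_pow, inv_inv]
      rw [← this]; group
    have hmem : c.g ^ (k * c.kappa m) ∈ N := pow_mem c.g_mem _
    have hy : ((m : G) * n)⁻¹ * c.g ^ k * ((m : G) * n) ∈ N := by
      rw [heq]; exact mul_mem (mul_mem (inv_mem n.2) hmem) n.2
    simp only [f, dif_pos hy]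
    rw [show (⟨_, hy⟩ : N) = n⁻¹ * ⟨_, hmem⟩ * n from Subtype.ext heq, map_mul, map_mul, map_inv,
      mul_comm, mul_inv_cancel_left, c.mu_apply,
      c.ω_pow_congr ((c.lg_eq hC (n := ⟨_, hmem⟩) (a := 0) (k := k * c.kappa m)
        (by simp)).mul_left j)]
  have hdouble : (e' : ℂ) * ∑ y : G, f y =
      (Nat.card N : ℂ) * ∑ m : c.M, c.ω ^ (j * (k * c.kappa m)) := by
    calc (e' : ℂ) * ∑ y : G, f y
        = ∑ y : G, f y * (Finset.univ.filter fun m : c.M => (m : G)⁻¹ * y ∈ N).card := by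
          rw [Finset.mul_sum]
          exact Finset.sum_congr rfl fun y _ => by rw [hfib, mul_comm]
      _ = ∑ m : c.M, ∑ y : G, if (m : G)⁻¹ * y ∈ N then f y else 0 := by
          rw [Finset.sum_comm]
          refine Finset.sum_congr rfl fun y _ => ?_
          rw [← Finset.sum_filter, Finset.sum_const, nsmul_eq_mul, mul_comm]
      _ = ∑ m : c.M, ∑ n : N, f ((m : G) * n) := by
          refine Finset.sum_congr rfl fun m _ => ?_
          rw [← Finset.sum_filter]
          refine Finset.sum_bij' (fun y hy => ⟨(m : G)⁻¹ * y, (Finset.mem_filter.mp hy).2⟩)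
            (fun n _ => (m : G) * n) (fun _ _ => Finset.mem_univ _) (fun n _ => ?_)
            (fun y _ => by simp) (fun n _ => Subtype.ext (by simp)) (fun y _ => by simp)
          simp [n.2]
      _ = _ := by
          simp only [hterm, Finset.sum_const, Finset.card_univ, nsmul_eq_mul,
            ← Nat.card_eq_fintype_card, Finset.mul_sum]
  have hN0 : (Nat.card N : ℂ) ≠ 0 := Nat.cast_ne_zero.mpr Nat.card_pos.ne'
  rw [hth, ← he'', mul_left_comm, hdouble, ← mul_assoc, inv_mul_cancel₀ hN0, one_mul]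

include hC hP hn hfull in
/-- The norms of the induced functions. -/
theorem Comp.norm_theta [Fintype c.M] (he : 2 ≤ c.e) (j : ℕ) :
    (c.e : ℂ) * Cfsg.classInner (c.theta hC j) (c.theta hC j) =
      ((Finset.univ.filter fun m : c.M => j * c.kappa m ≡ j [MOD c.e]).card : ℂ) := by
  classical
  have hmain := c.inner_theta hC (c.theta_classFun hC j) j
  have hsum0 : ∑ z : ZMod p, conj (c.theta hC j (x ^ z.val)) = ((r + 1 : ℕ) : ℂ) * p := by
    rw [sum_zmod_split, ZMod.val_zero, pow_zero, c.theta_one hC hP, hn,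
      Finset.sum_congr rfl fun w _ => by rw [c.theta_pow_x hC hP j w], Finset.sum_const,
      Finset.card_univ, ZMod.card_units, nsmul_eq_mul, map_one, map_natCast]
    push_cast [Nat.cast_sub (Fact.out : p.Prime).one_le]
    ring
  have hne : ∀ k ∈ (Finset.range c.e).erase 0, ¬ c.e ∣ k := by
    intro k hk h
    obtain ⟨h0, h1⟩ := Finset.mem_erase.mp hk
    exact h0 (Nat.eq_zero_of_dvd_of_lt h (Finset.mem_range.mp h1))
  have he0 : (c.e : ℂ) ≠ 0 := Nat.cast_ne_zero.mpr c.e_pos.ne'
  let z : c.M → ℂ := fun m => conj (c.ω ^ (j * c.kappa m)) * c.ω ^ j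
  have hk : ∀ k ∈ (Finset.range c.e).erase 0,
      conj (c.theta hC j (c.g ^ k)) * c.ω ^ (j * k) = (c.e : ℂ)⁻¹ * ∑ m : c.M, z m ^ k := by
    intro k hk
    have h := c.theta_pow_g hC hP hn hfull he j (hne k hk)
    rw [← eq_inv_mul_iff_mul_eq₀ he0] at h
    rw [h, map_mul, map_inv₀, map_natCast, map_sum, mul_assoc, Finset.sum_mul]
    congr 1
    refine Finset.sum_congr rfl fun m _ => ?_
    simp only [z, mul_pow, ← map_pow, ← pow_mul]
    ring_nf
  have hgeom : ∀ m, ∑ k ∈ Finset.range c.e, z m ^ k =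
      if j * c.kappa m ≡ j [MOD c.e] then (c.e : ℂ) else 0 := by
    intro m
    have hunit : ∀ a : ℕ, conj (c.ω ^ a) * c.ω ^ a = 1 := fun a => by
      rw [← Complex.normSq_eq_conj_mul_self, Complex.normSq_eq_norm_sq, norm_pow,
        c.ω_spec.norm'_eq_one c.e_pos.ne']
      simp
    split_ifs with h
    · have : z m = 1 := by simp only [z]; rw [c.ω_pow_congr h, hunit]
      simp [this]
    · have hz1 : z m ≠ 1 := by
        intro h1
        apply h
        have : c.ω ^ (j * c.kappa m) * (conj (c.ω ^ (j * c.kappa m)) * c.ω ^ j) =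
            c.ω ^ (j * c.kappa m) := by simp only [z] at h1; rw [h1, mul_one]
        rw [← mul_assoc, mul_comm (c.ω ^ (j * c.kappa m)), hunit, one_mul] at this
        rw [(isOfFinOrder_iff_pow_eq_one.mpr
          ⟨_, c.e_pos, c.ω_spec.pow_eq_one⟩).pow_eq_pow_iff_modEq, ← c.ω_spec.eq_orderOf] at this
        exact this.symm
      have hze : z m ^ c.e = 1 := by
        simp only [z, mul_pow, ← map_pow, ← pow_mul]
        rw [mul_comm _ c.e, mul_comm j c.e]
        simp only [pow_mul, c.ω_spec.pow_eq_one, one_pow, map_one, one_mul]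
      rw [geom_sum_eq hz1, hze, sub_self, zero_div]
  rw [hsum0, Finset.sum_congr rfl hk, ← Finset.mul_sum, Finset.sum_comm] at hmain
  have hall : ∑ m : c.M, ∑ k ∈ (Finset.range c.e).erase 0, z m ^ k =
      (c.e : ℂ) * ((Finset.univ.filter fun m : c.M => j * c.kappa m ≡ j [MOD c.e]).card : ℂ) -
        ((c.e * (r + 1) : ℕ) : ℂ) := by
    rw [eq_sub_iff_add_eq, ← c.card_M hC hP hn hfull he, Nat.card_eq_fintype_card,
      ← Finset.card_univ, Finset.card_eq_sum_ones, Nat.cast_sum, ← Finset.sum_add_distrib]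
    calc ∑ m : c.M, (∑ k ∈ (Finset.range c.e).erase 0, z m ^ k + ((1 : ℕ) : ℂ))
        = ∑ m : c.M, ∑ k ∈ Finset.range c.e, z m ^ k := Finset.sum_congr rfl fun m _ => by
          rw [← Finset.sum_erase_add _ _ (Finset.mem_range.mpr c.e_pos), pow_zero, Nat.cast_one]
      _ = _ := by
          simp only [hgeom]
          rw [← Finset.sum_filter, Finset.sum_const, nsmul_eq_mul, mul_comm]
  rw [hall] at hmain
  have hp0 : (p : ℂ) ≠ 0 := Nat.cast_ne_zero.mpr (Fact.out : p.Prime).ne_zero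
  push_cast at hmain
  refine mul_left_cancel₀ (mul_ne_zero hp0 he0) ?_
  field_simp at hmain ⊢
  linear_combination hmain

end Cfsg.Agent.Lib.FirstPower.PerfectFew
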