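import Cfsg.Agent.Lib.FirstPower.Consequences
import Cfsg.Agent.Lib.Induced.Character
import Cfsg.Agent.Lib.SelfCentral

/-!
# The Frobenius group `N(⟨x⟩)` of a self-centralizing subgroup of prime order

`N = ⟨x⟩ ⋊ ⟨g⟩`, its linear characters, the sum over `N` of a class function times a linear
character, and the fixed points of the powers of `g` on the Sylow subgroups.
-/

namespace Cfsg.Agent.Lib.FirstPower.PerfectFew

open Periods Average Consequences Cfsg.Agent.Lib.Characters.Basic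
open Family (pow_eq_one_of_order)

universe u

variable {p : ℕ} [Fact p.Prime] {G : Type u} [Group G] [Finite G] {x : G} {hx : orderOf x = p}

/-- A generator of a complement of `⟨x⟩` in its normalizer. -/
structure Comp (hx : orderOf x = p) where
  /-- the generator -/
  g : G
  /-- its exponent on `x` -/
  u : (ZMod p)ˣ
  conj_x : g * x * g⁻¹ = x ^ (u : ZMod p).val
  ord_g : orderOf g = Nat.card (autE (pow_eq_one_of_order hx))
  ord_u : orderOf u = Nat.card (autE (pow_eq_one_of_order hx))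
  gen : autE (pow_eq_one_of_order hx) = Subgroup.zpowers u

/-- The order of the complement. -/
noncomputable abbrev Comp.e (_c : Comp hx) : ℕ := Nat.card (autE (pow_eq_one_of_order hx))

theorem not_sq_dvd (hx : orderOf x = p)
    (hC : Subgroup.centralizer ({x} : Set G) = Subgroup.zpowers x) : ¬ p ^ 2 ∣ Nat.card G := by
  intro h
  obtain ⟨P, hP⟩ := SelfCentral.exists_sylow (Fact.out : p.Prime) hx hC
  have := P.pow_dvd_card_of_pow_dvd_card h
  rw [hP, Nat.card_zpowers, hx] at this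
  have := Nat.le_of_dvd (Fact.out : p.Prime).pos this
  have := (Fact.out : p.Prime).two_le
  nlinarith

theorem exists_comp (hx : orderOf x = p)
    (hC : Subgroup.centralizer ({x} : Set G) = Subgroup.zpowers x)
    (he : 2 ≤ Nat.card (autE (pow_eq_one_of_order hx))) : Nonempty (Comp hx) := by
  have hxp := pow_eq_one_of_order hx
  obtain ⟨⟨u, hu⟩, hgen⟩ := IsCyclic.exists_generator (α := autE hxp)
  obtain ⟨g, hg⟩ := isConj_iff.mp ((mem_autE hxp).mp hu)
  have hgenu : autE hxp = Subgroup.zpowers u := by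
    refine le_antisymm (fun w hw => ?_) (Subgroup.zpowers_le.mpr hu)
    obtain ⟨k, hk⟩ := Subgroup.mem_zpowers_iff.mp (hgen ⟨w, hw⟩)
    exact Subgroup.mem_zpowers_iff.mpr ⟨k, congrArg Subtype.val hk⟩
  have hordu : orderOf u = Nat.card (autE hxp) := by rw [hgenu, Nat.card_zpowers]
  have hconj : ∀ k : ℕ, g ^ k * x * (g ^ k)⁻¹ = x ^ ((u ^ k : (ZMod p)ˣ) : ZMod p).val := by
    intro k
    induction k with
    | zero => rw [pow_zero, pow_zero, Units.val_one, pow_val_one hxp]; group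
    | succ k ih =>
      calc g ^ (k + 1) * x * (g ^ (k + 1))⁻¹ = g ^ k * (g * x * g⁻¹) * (g ^ k)⁻¹ := by
            rw [pow_succ]; group
        _ = (g ^ k * x * (g ^ k)⁻¹) ^ (u : ZMod p).val := by rw [hg, conj_pow]
        _ = _ := by rw [ih, ← pow_val_mul hxp, pow_succ u k, Units.val_mul]
  refine ⟨⟨g, u, hg, ?_, hordu, hgenu⟩⟩
  -- `g ^ e` is a power of `x` commuting with `g`
  have h1 : g ^ orderOf u ∈ Subgroup.zpowers x := by
    rw [← hC, Subgroup.mem_centralizer_singleton_iff]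
    have := hconj (orderOf u)
    rw [pow_orderOf_eq_one, Units.val_one, pow_val_one hxp, mul_inv_eq_iff_eq_mul] at this
    exact this
  obtain ⟨a, ha⟩ := (mem_zpowers_iff_val hxp).mp h1
  have h2 : g ^ orderOf u = 1 := by
    have h3 : g * x ^ a.val * g⁻¹ = x ^ ((u : ZMod p) * a).val := by
      rw [← conj_pow, hg, ← pow_val_mul hxp]
    rw [ha, show g * g ^ orderOf u * g⁻¹ = g ^ orderOf u by group, ← ha] at h3
    have h4 := pow_val_inj hx h3
    have h5 : (1 - (u : ZMod p)) * a = 0 := by rw [sub_mul, one_mul, ← h4, sub_self]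
    rcases mul_eq_zero.mp h5 with h | h
    · have : u = 1 := Units.ext (sub_eq_zero.mp h).symm
      rw [this, orderOf_one] at hordu
      omega
    · rw [← ha, h, ZMod.val_zero, pow_zero]
  refine Nat.dvd_antisymm (hordu ▸ orderOf_dvd_of_pow_eq_one h2) (hordu ▸ ?_)
  refine orderOf_dvd_of_pow_eq_one (Units.ext ?_)
  have h6 := hconj (orderOf g)
  rw [pow_orderOf_eq_one, inv_one, one_mul, mul_one] at h6
  refine (pow_val_inj hx ?_)
  rw [← h6, Units.val_one, pow_val_one hxp]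

variable (c : Comp hx)

theorem Comp.conj_pow_pow (k : ℕ) (a : ZMod p) :
    c.g ^ k * x ^ a.val * (c.g ^ k)⁻¹ = x ^ (((c.u ^ k : (ZMod p)ˣ) : ZMod p) * a).val := by
  have hxp := pow_eq_one_of_order hx
  induction k generalizing a with
  | zero => rw [pow_zero, pow_zero, Units.val_one, one_mul]; group
  | succ k ih =>
    calc c.g ^ (k + 1) * x ^ a.val * (c.g ^ (k + 1))⁻¹
        = c.g ^ k * (c.g * x ^ a.val * c.g⁻¹) * (c.g ^ k)⁻¹ := by rw [pow_succ]; group
      _ = c.g ^ k * x ^ ((c.u : ZMod p) * a).val * (c.g ^ k)⁻¹ := by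
          rw [← conj_pow, c.conj_x, ← pow_val_mul hxp]
      _ = _ := by rw [ih, pow_succ c.u k, Units.val_mul, mul_assoc]

theorem Comp.pow_g_eq_one {k : ℕ} : c.g ^ k = 1 ↔ c.e ∣ k := by
  rw [← orderOf_dvd_iff_pow_eq_one, c.ord_g]

theorem Comp.pow_u_eq_one {k : ℕ} : c.u ^ k = 1 ↔ c.e ∣ k := by
  rw [← orderOf_dvd_iff_pow_eq_one, c.ord_u]

theorem Comp.g_mem : c.g ∈ Subgroup.normalizer (Subgroup.zpowers x : Set G) := by
  rw [Subgroup.mem_normalizer_iff_map_conj_eq]
  refine Subgroup.eq_of_le_of_card_ge ?_ ?_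
  · rw [MonoidHom.map_zpowers, Subgroup.zpowers_le]
    show c.g * x * c.g⁻¹ ∈ _
    rw [c.conj_x]
    exact pow_mem (Subgroup.mem_zpowers x) _
  · rw [MonoidHom.map_zpowers, Nat.card_zpowers, Nat.card_zpowers]
    exact (orderOf_injective (MulAut.conj c.g).toMonoidHom (MulAut.conj c.g).injective x).ge

theorem Comp.e_pos : 0 < c.e := Nat.card_pos

theorem Comp.elem_mem (a : ZMod p) (k : ℕ) :
    x ^ a.val * c.g ^ k ∈ Subgroup.normalizer (Subgroup.zpowers x : Set G) :=
  mul_mem (Subgroup.le_normalizer (pow_mem (Subgroup.mem_zpowers x) _)) (pow_mem c.g_mem _)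

theorem Comp.elem_conj (a : ZMod p) (k : ℕ) :
    (x ^ a.val * c.g ^ k) * x * (x ^ a.val * c.g ^ k)⁻¹ =
      x ^ ((c.u ^ k : (ZMod p)ˣ) : ZMod p).val := by
  have hxp := pow_eq_one_of_order hx
  have h := c.conj_pow_pow k 1
  rw [pow_val_one hxp, mul_one] at h
  calc _ = x ^ a.val * (c.g ^ k * x * (c.g ^ k)⁻¹) * (x ^ a.val)⁻¹ := by group
    _ = _ := by
      rw [h, ((Commute.refl x).pow_pow a.val _).eq, mul_inv_cancel_right]

/-- Conjugates of `g ^ k` under `⟨x⟩`. -/
theorem Comp.exists_conj {k : ℕ} (hk : ¬ c.e ∣ k) (a : ZMod p) :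
    ∃ b : ZMod p, x ^ b.val * c.g ^ k * (x ^ b.val)⁻¹ = x ^ a.val * c.g ^ k := by
  have hxp := pow_eq_one_of_order hx
  set w : ZMod p := ((c.u ^ k : (ZMod p)ˣ) : ZMod p)
  have hw : 1 - w ≠ 0 := sub_ne_zero.mpr fun h => hk (c.pow_u_eq_one.mp (Units.ext h.symm))
  refine ⟨a * (1 - w)⁻¹, ?_⟩
  set b := a * (1 - w)⁻¹ with hb
  have h := c.conj_pow_pow k (-b)
  have hinv : (x ^ b.val)⁻¹ = x ^ (-b).val := inv_eq_of_mul_eq_one_right (by
    rw [← pow_val_add hxp, add_neg_cancel, ZMod.val_zero, pow_zero])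
  rw [hinv]
  calc x ^ b.val * c.g ^ k * x ^ (-b).val
      = x ^ b.val * (c.g ^ k * x ^ (-b).val * (c.g ^ k)⁻¹) * c.g ^ k := by group
    _ = _ := by
        rw [h, ← pow_val_add hxp]
        congr 3
        rw [show b + w * -b = (1 - w) * b by ring, hb, mul_comm a, mul_inv_cancel_left₀ hw]

/-- A class function on `x ^ a * g ^ k`. -/
theorem Comp.apply_elem {F : G → ℂ} (hF : Cfsg.IsClassFunction G F) {k : ℕ} (hk : ¬ c.e ∣ k)
    (a : ZMod p) : F (x ^ a.val * c.g ^ k) = F (c.g ^ k) := by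
  obtain ⟨b, hb⟩ := c.exists_conj hk a
  rw [← hb]
  exact hF _ _

theorem Comp.elem_inj {a b : ZMod p} {k l : ℕ} (hk : k < c.e) (hl : l < c.e)
    (h : x ^ a.val * c.g ^ k = x ^ b.val * c.g ^ l) : a = b ∧ k = l := by
  have h1 := c.elem_conj a k
  rw [h, c.elem_conj] at h1
  have h2 : c.u ^ l = c.u ^ k := Units.ext (pow_val_inj hx h1)
  have hkl : k = l := (pow_injOn_Iio_orderOf (by rw [c.ord_u]; exact hl)
    (by rw [c.ord_u]; exact hk) h2).symm
  subst hkl
  exact ⟨pow_val_inj hx (mul_right_cancel h), rfl⟩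

section

variable (hC : Subgroup.centralizer ({x} : Set G) = Subgroup.zpowers x)
include hC

theorem Comp.exists_elem {n : G} (hn : n ∈ Subgroup.normalizer (Subgroup.zpowers x : Set G)) :
    ∃ (a : ZMod p), ∃ k < c.e, n = x ^ a.val * c.g ^ k := by
  have hxp := pow_eq_one_of_order hx
  obtain ⟨w, hw⟩ := (mem_zpowers_iff_val hxp).mp
    ((Subgroup.mem_normalizer_iff.mp hn x).mp (Subgroup.mem_zpowers x))
  have hw0 : w ≠ 0 := by
    rintro rfl
    rw [ZMod.val_zero, pow_zero, eq_comm, conj_eq_one_iff] at hw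
    rw [hw, orderOf_one] at hx
    exact (Fact.out : p.Prime).ne_one hx.symm
  have hmem : Units.mk0 w hw0 ∈ autE hxp := (mem_autE hxp).mpr (isConj_iff.mpr ⟨n, hw.symm⟩)
  rw [c.gen, ← mem_powers_iff_mem_zpowers] at hmem
  obtain ⟨k, hk⟩ := hmem
  have hk' : c.u ^ (k % c.e) = Units.mk0 w hw0 := by
    rw [← hk]
    show c.u ^ (k % Nat.card _) = c.u ^ k
    rw [← c.ord_u, pow_mod_orderOf]
  set m := k % c.e with hm
  have h1 := c.conj_pow_pow m 1
  rw [pow_val_one hxp, mul_one, hk', Units.val_mk0, hw] at h1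
  have h : (c.g ^ m)⁻¹ * n ∈ Subgroup.zpowers x := by
    rw [← hC, Subgroup.mem_centralizer_singleton_iff]
    calc (c.g ^ m)⁻¹ * n * x = (c.g ^ m)⁻¹ * (n * x * n⁻¹) * n := by group
      _ = (c.g ^ m)⁻¹ * (c.g ^ m * x * (c.g ^ m)⁻¹) * n := by rw [h1]
      _ = x * ((c.g ^ m)⁻¹ * n) := by group
  obtain ⟨a, ha⟩ := (mem_zpowers_iff_val hxp).mp h
  refine ⟨((c.u ^ m : (ZMod p)ˣ) : ZMod p) * a, m, Nat.mod_lt _ c.e_pos, ?_⟩
  rw [← c.conj_pow_pow, ha]
  group

/-- The logarithm of an element of `N`. -/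
noncomputable def Comp.lg (n : Subgroup.normalizer (Subgroup.zpowers x : Set G)) : ℕ :=
  (c.exists_elem hC n.2).choose_spec.choose

theorem Comp.lg_spec (n : Subgroup.normalizer (Subgroup.zpowers x : Set G)) :
    ∃ a : ZMod p, c.lg hC n < c.e ∧ (n : G) = x ^ a.val * c.g ^ c.lg hC n :=
  ⟨_, (c.exists_elem hC n.2).choose_spec.choose_spec⟩

theorem Comp.lg_eq {n : Subgroup.normalizer (Subgroup.zpowers x : Set G)} {a : ZMod p} {k : ℕ}
    (h : (n : G) = x ^ a.val * c.g ^ k) : c.lg hC n ≡ k [MOD c.e] := by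
  obtain ⟨b, -, hb⟩ := c.lg_spec hC n
  have h1 := c.elem_conj b (c.lg hC n)
  rw [← hb, h, c.elem_conj] at h1
  have h2 : c.u ^ k = c.u ^ c.lg hC n := Units.ext (pow_val_inj hx h1)
  rw [pow_eq_pow_iff_modEq, c.ord_u] at h2
  exact h2.symm

theorem Comp.lg_mul (m n : Subgroup.normalizer (Subgroup.zpowers x : Set G)) :
    c.lg hC (m * n) ≡ c.lg hC m + c.lg hC n [MOD c.e] := by
  have hxp := pow_eq_one_of_order hx
  obtain ⟨a, -, ha⟩ := c.lg_spec hC m
  obtain ⟨b, -, hb⟩ := c.lg_spec hC n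
  refine c.lg_eq hC (a := a + ((c.u ^ c.lg hC m : (ZMod p)ˣ) : ZMod p) * b) ?_
  rw [Subgroup.coe_mul, ha, hb, pow_val_add hxp, ← c.conj_pow_pow, pow_add]
  group

/-- The primitive root used for the linear characters. -/
noncomputable def Comp.ω : ℂ := Complex.exp (2 * Real.pi * Complex.I / (c.e : ℕ))

omit hC in
theorem Comp.ω_spec : IsPrimitiveRoot c.ω c.e := Complex.isPrimitiveRoot_exp _ c.e_pos.ne'

omit hC in
theorem Comp.ω_pow_congr {a b : ℕ} (h : a ≡ b [MOD c.e]) : c.ω ^ a = c.ω ^ b := by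
  rw [(isOfFinOrder_iff_pow_eq_one.mpr ⟨_, c.e_pos, c.ω_spec.pow_eq_one⟩).pow_eq_pow_iff_modEq,
    ← c.ω_spec.eq_orderOf]
  exact h

/-- The linear character `j` of `N`. -/
noncomputable def Comp.mu (j : ℕ) :
    Subgroup.normalizer (Subgroup.zpowers x : Set G) →* ℂˣ :=
  MonoidHom.toHomUnits
    { toFun := fun n => c.ω ^ (j * c.lg hC n)
      map_one' := by
        have h := c.lg_eq hC (n := 1) (a := 0) (k := 0) (by simp)
        rw [c.ω_pow_congr (h.mul_left j), mul_zero, pow_zero]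
      map_mul' := fun m n => by
        rw [c.ω_pow_congr ((c.lg_mul hC m n).mul_left j), mul_add, pow_add] }

theorem Comp.mu_apply (j : ℕ) (n : Subgroup.normalizer (Subgroup.zpowers x : Set G)) :
    (c.mu hC j n : ℂ) = c.ω ^ (j * c.lg hC n) := rfl

/-- Sum over `N` of a class function times a linear character. -/
theorem Comp.sum_normalizer [Fintype (Subgroup.normalizer (Subgroup.zpowers x : Set G))]
    {F : G → ℂ} (hF : Cfsg.IsClassFunction G F) (j : ℕ) :
    ∑ n : Subgroup.normalizer (Subgroup.zpowers x : Set G), F n * (c.mu hC j n : ℂ) =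
      (∑ z : ZMod p, F (x ^ z.val)) +
        (p : ℂ) * ∑ k ∈ (Finset.range c.e).erase 0, F (c.g ^ k) * c.ω ^ (j * k) := by
  classical
  let f : ZMod p × Fin c.e → Subgroup.normalizer (Subgroup.zpowers x : Set G) :=
    fun ak => ⟨x ^ ak.1.val * c.g ^ (ak.2 : ℕ), c.elem_mem _ _⟩
  have hf : Function.Bijective f := by
    constructor
    · intro a b h
      obtain ⟨h1, h2⟩ := c.elem_inj a.2.2 b.2.2 (Subtype.ext_iff.mp h)
      exact Prod.ext h1 (Fin.ext h2)
    · intro n
      obtain ⟨a, k, hk, h⟩ := c.exists_elem hC n.2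
      exact ⟨(a, ⟨k, hk⟩), Subtype.ext h.symm⟩
  rw [← Fintype.sum_bijective f hf _ _ fun ak => rfl, Fintype.sum_prod_type, Finset.sum_comm]
  have hterm : ∀ k : Fin c.e, ∑ a : ZMod p, F (f (a, k)) * (c.mu hC j (f (a, k)) : ℂ) =
      if (k : ℕ) = 0 then ∑ z : ZMod p, F (x ^ z.val)
      else (p : ℂ) * (F (c.g ^ (k : ℕ)) * c.ω ^ (j * (k : ℕ))) := by
    intro k
    have hmu : ∀ a, (c.mu hC j (f (a, k)) : ℂ) = c.ω ^ (j * (k : ℕ)) := fun a => by
      rw [c.mu_apply, c.ω_pow_congr ((c.lg_eq hC (n := f (a, k)) rfl).mul_left j)]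
    simp only [hmu]
    split_ifs with h
    · simp [f, h]
    · have hk : ¬ c.e ∣ (k : ℕ) := fun hd => h (Nat.eq_zero_of_dvd_of_lt hd k.2)
      simp only [f, c.apply_elem hF hk, Finset.sum_const, Finset.card_univ, ZMod.card,
        nsmul_eq_mul]
  rw [Finset.sum_congr rfl fun k _ => hterm k, Fin.sum_univ_eq_sum_range (fun k =>
    if k = 0 then ∑ z : ZMod p, F (x ^ z.val) else (p : ℂ) * (F (c.g ^ k) * c.ω ^ (j * k))),
    ← Finset.add_sum_erase _ _ (Finset.mem_range.mpr c.e_pos), if_pos rfl, Finset.mul_sum]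
  congr 1
  exact Finset.sum_congr rfl fun k hk => if_neg (Finset.mem_erase.mp hk).1

end

/-- A character with zero sum on `⟨x⟩` vanishes off the kernel in `N`. -/
theorem Comp.apply_eq_zero {χ : G → ℂ} (hχ : Cfsg.IsCharacter G χ)
    (h0 : ∑ z : ZMod p, χ (x ^ z.val) = 0) {k : ℕ} (hk : ¬ c.e ∣ k) : χ (c.g ^ k) = 0 := by
  classical
  have hxp := pow_eq_one_of_order hx
  obtain ⟨d, ρ, rfl⟩ := hχ
  let S : Module.End ℂ (Fin d → ℂ) := ∑ z : ZMod p, ρ (x ^ z.val)
  have hp0 : (p : ℂ) ≠ 0 := Nat.cast_ne_zero.mpr (Fact.out : p.Prime).ne_zero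
  have hS : S * S = (p : ℂ) • S := by
    have h : ∀ a : ZMod p, ρ (x ^ a.val) * S = S := fun a => by
      rw [Finset.mul_sum]
      exact Fintype.sum_equiv (Equiv.addLeft a) _ _ fun z => by
        rw [← map_mul, ← pow_val_add hxp]; rfl
    conv_lhs => arg 1; simp only [S]
    rw [Finset.sum_mul, Finset.sum_congr rfl fun a _ => h a, Finset.sum_const, Finset.card_univ,
      ZMod.card, ← Nat.cast_smul_eq_nsmul ℂ]
  have hid : IsIdempotentElem ((p : ℂ)⁻¹ • S) := by
    show _ * _ = _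
    rw [smul_mul_smul_comm, hS, smul_smul, mul_assoc, inv_mul_cancel₀ hp0, mul_one]
  have hproj := LinearMap.IsIdempotentElem.isProj_range _ hid
  have htr := hproj.trace
  rw [map_smul, map_sum, show ∑ z : ZMod p, LinearMap.trace ℂ _ (ρ (x ^ z.val)) = 0 from h0,
    smul_zero, eq_comm, Nat.cast_eq_zero, Submodule.finrank_eq_zero] at htr
  have hS0 : S = 0 := by
    have := LinearMap.range_eq_bot.mp htr
    exact (smul_eq_zero.mp this).resolve_left (inv_ne_zero hp0)
  have h : (p : ℂ) * ρ.character (c.g ^ k) = 0 := by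
    have h1 : ∑ a : ZMod p, ρ.character (x ^ a.val * c.g ^ k) = 0 := by
      have : LinearMap.trace ℂ _ (S * ρ (c.g ^ k)) = 0 := by rw [hS0, zero_mul, map_zero]
      rw [Finset.sum_mul, map_sum] at this
      rw [← this]
      exact Finset.sum_congr rfl fun a _ => by rw [← map_mul]; rfl
    rw [Finset.sum_congr rfl fun a _ =>
      c.apply_elem (isClassFunction_character ρ) hk a, Finset.sum_const, Finset.card_univ,
      ZMod.card, nsmul_eq_mul] at h1
    exact h1
  exact (mul_eq_zero.mp h).resolve_left hp0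

end Cfsg.Agent.Lib.FirstPower.PerfectFew
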