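import Cfsg.Agent.Lib.FirstPower.PerfectFew.Recog

/-!
# Perfect groups with a self-centralizing subgroup of order `p` and few Sylow `p`-subgroups
-/

namespace Cfsg.Agent.Lib.FirstPower.PerfectFew

open Periods Average Consequences
open Family (pow_eq_one_of_order)

universe u

/-- A simple group of this shape is `PSL(2, p)`, or `PSL(2, p - 1)` with `p - 1` a power of two. -/
theorem main_of_noFactor {G : Type u} [Group G] [Finite G] [IsSimpleGroup G] {p : ℕ} [Fact p.Prime]
    {x : G} (hperf : commutator G = ⊤) (hx : orderOf x = p)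
    (hC : Subgroup.centralizer ({x} : Set G) = Subgroup.zpowers x)
    (hF : ∀ r, Nat.card (Sylow p G) = r * p + 1 → Formula.NoFactor p r) :
    (∃ (F : Type) (_ : Field F) (_ : Fintype F), Fintype.card F = p ∧ 3 < p ∧
      Nonempty (G ≃* Matrix.ProjectiveSpecialLinearGroup (Fin 2) F)) ∨
    (∃ (m : ℕ) (F : Type) (_ : Field F) (_ : Fintype F), Fintype.card F = 2 ^ m ∧ p = 2 ^ m + 1 ∧
      3 < p ∧ Nonempty (G ≃* Matrix.ProjectiveSpecialLinearGroup (Fin 2) F)) := by
  have := Fintype.ofFinite G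
  have he := two_le_autE hx hC hperf
  obtain ⟨c⟩ := exists_comp hx hC he
  obtain ⟨P, hP⟩ := SelfCentral.exists_sylow (Fact.out : p.Prime) hx hC
  have hone := one_lt_card_sylow hx hC hperf
  have hcase : (p = 2 * c.e + 1 ∧ Nat.card (Sylow p G) = p + 1) ∨
      (orderOf c.g = 2 ∧ 5 ≤ p ∧ Nat.card (Subgroup.centralizer ({c.g} : Set G)) = p - 1 ∧
        (∀ m ∈ Subgroup.centralizer ({c.g} : Set G), m * m = 1) ∧
        ∀ i : G, orderOf i = 2 → IsConj c.g i) := by
    rcases c.cases hC hP hperf hone hF he with h | ⟨⟨K⟩⟩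
    · exact Or.inl h
    · exact K.finish hC hP
  rcases hcase with ⟨hp, hnp⟩ | ⟨hg, hp5, hcard, hexp, hconj⟩
  · obtain ⟨F, i1, i2, hF, hiso⟩ := c.psl_self hC hP hp hnp he
    have he' : 2 ≤ c.e := he
    exact Or.inl ⟨F, i1, i2, hF, by omega, hiso⟩
  · obtain ⟨m, F, i1, i2, hF, hpm, hiso⟩ := psl_pred hx hg hp5 hcard hexp hconj
    exact Or.inr ⟨m, F, i1, i2, hF, hpm, by omega, hiso⟩

/-- `G` is `PSL(2, p)`, or `PSL(2, p - 1)` with `p - 1` a power of two. -/
theorem main {G : Type u} [Group G] [Finite G] {p : ℕ} [Fact p.Prime] {x : G}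
    (hperf : commutator G = ⊤) (hx : orderOf x = p)
    (hC : Subgroup.centralizer ({x} : Set G) = Subgroup.zpowers x)
    (hn : 2 * Nat.card (Sylow p G) < (p + 1) * (p + 2)) :
    (∃ (F : Type) (_ : Field F) (_ : Fintype F), Fintype.card F = p ∧ 3 < p ∧
      Nonempty (G ≃* Matrix.ProjectiveSpecialLinearGroup (Fin 2) F)) ∨
    (∃ (m : ℕ) (F : Type) (_ : Field F) (_ : Fintype F), Fintype.card F = 2 ^ m ∧ p = 2 ^ m + 1 ∧
      3 < p ∧ Nonempty (G ≃* Matrix.ProjectiveSpecialLinearGroup (Fin 2) F)) := by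
  haveI := isSimpleGroup hx hC hperf hn
  refine main_of_noFactor hperf hx hC fun r hr =>
    Formula.noFactor_of_bound (Fact.out : p.Prime).one_le ?_
  rw [hr] at hn
  by_contra h
  push Not at h
  have := Nat.mul_le_mul_right p h
  nlinarith

end Cfsg.Agent.Lib.FirstPower.PerfectFew
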