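import Cfsg.Agent.Lib.FirstPower.PerfectFew.Frobenius
import Cfsg.Agent.Lib.SmallGroups.Sylow

/-!
# A perfect group with few Sylow subgroups of order `p` is simple
-/

namespace Cfsg.Agent.Lib.FirstPower.PerfectFew

open Periods Average Consequences
open Family (pow_eq_one_of_order)
open scoped commutatorElement

universe u

variable {p : ℕ} [Fact p.Prime] {G : Type u} [Group G] [Finite G] {x : G}
variable (hx : orderOf x = p) (hC : Subgroup.centralizer ({x} : Set G) = Subgroup.zpowers x)
variable (hperf : commutator G = ⊤)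

include hC hperf in
theorem two_le_autE : 2 ≤ Nat.card (autE (pow_eq_one_of_order hx)) := by
  have hp : p.Prime := Fact.out
  by_contra h
  have h1 : Nat.card (autE (pow_eq_one_of_order hx)) = 1 := by
    have : 0 < Nat.card (autE (pow_eq_one_of_order hx)) := Nat.card_pos
    omega
  have hN : Subgroup.normalizer (Subgroup.zpowers x : Set G) ≤ Subgroup.zpowers x := by
    refine (Subgroup.eq_of_le_of_card_ge (Subgroup.le_normalizer) ?_).ge
    rw [Consequences.card_normalizer hx, h1, one_mul, hC]
  obtain ⟨-, hidx⟩ := SelfCentral.exists_complement hp hx hC (Subgroup.relIndex_eq_one.mpr hN)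
  rw [hperf, Subgroup.index_top] at hidx
  exact hp.one_lt.ne hidx

include hx hC in
theorem card_sylow_eq_index :
    Nat.card (Sylow p G) = (Subgroup.normalizer (Subgroup.zpowers x : Set G)).index := by
  obtain ⟨P, hP⟩ := SelfCentral.exists_sylow (Fact.out : p.Prime) hx hC
  rw [← SmallGroups.Sylow.index_normalizer P, hP]

include hx hC hperf in
theorem eq_top_of_normal (S : Subgroup G) [S.Normal] (h : p ∣ Nat.card S) : S = ⊤ :=
  top_le_iff.mp (hperf ▸ SelfCentral.commutator_le_of_dvd (Fact.out : p.Prime) hx hC S h)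

include hx hC hperf in
theorem one_lt_card_sylow : 1 < Nat.card (Sylow p G) := by
  have hp : p.Prime := Fact.out
  rw [card_sylow_eq_index hx hC]
  refine Subgroup.one_lt_index_of_ne_top fun hN => ?_
  haveI : (Subgroup.zpowers x).Normal := Subgroup.normalizer_eq_top_iff.mp hN
  have htop : Subgroup.zpowers x = ⊤ :=
    eq_top_of_normal hx hC hperf _ (by rw [Nat.card_zpowers, hx])
  have h := two_le_autE hx hC hperf
  have h2 := Consequences.card_normalizer hx
  rw [hN, hC, Subgroup.card_top, ← Subgroup.card_top (G := G), ← htop, Nat.card_zpowers, hx] at h2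
  have := Nat.mul_le_mul_right p h
  have := hp.pos
  omega

include hx hC hperf in
/-- The group is simple. -/
theorem isSimpleGroup (hn : 2 * Nat.card (Sylow p G) < (p + 1) * (p + 2)) : IsSimpleGroup G := by
  have hp : p.Prime := Fact.out
  haveI : Nontrivial G := ⟨⟨x, 1, fun h => hp.ne_one (by rw [← hx, h, orderOf_one])⟩⟩
  refine ⟨fun S hS => ?_⟩
  by_contra hne
  push Not at hne
  obtain ⟨hbot, htop⟩ := hne
  have hdvd : ¬ p ∣ Nat.card S := fun h => htop (eq_top_of_normal hx hC hperf S h)
  set N := Subgroup.normalizer (Subgroup.zpowers x : Set G) with hNdef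
  obtain ⟨k, hk⟩ := SelfCentral.card_dvd_index_normalizer hp hx hC S hdvd
  have hmod := SelfCentral.card_modEq_one hp hx hC S hdvd
  have hn' := card_sylow_eq_index hx hC
  rw [← hNdef] at hk hn'
  rw [hk] at hn'
  have hS1 : p + 1 ≤ Nat.card S := by
    have h1 : Nat.card S ≠ 1 := fun h => hbot (Subgroup.card_eq_one.mp h)
    have h2 := Nat.mod_add_div (Nat.card S) p
    rw [hmod] at h2
    rcases Nat.eq_zero_or_pos (Nat.card S / p) with h | h
    · rw [h, mul_zero] at h2; omega
    · have := Nat.le_mul_of_pos_right p h; omega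
  have hkmod : k % p = 1 := by
    have h2 := SmallGroups.Sylow.card_sylow_mod (p := p) (G := G)
    rw [hn', Nat.mul_mod, hmod, one_mul, Nat.mod_mod] at h2
    exact h2
  have hk1 : k = 1 := by
    by_contra h
    have hk2 : p + 1 ≤ k := by
      have h2 := Nat.mod_add_div k p
      rw [hkmod] at h2
      rcases Nat.eq_zero_or_pos (k / p) with h' | h'
      · rw [h', mul_zero] at h2; omega
      · have := Nat.le_mul_of_pos_right p h'; omega
    have := Nat.mul_le_mul hS1 hk2
    nlinarith
  rw [hk1, mul_one] at hk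
  -- `N` is a complement of `S`
  have hker : ∀ n ∈ N, n ∈ S → n = 1 := by
    intro s hs hsS
    refine SelfCentral.eq_one_of_commute hp hx hC hdvd hsS
      (SelfCentral.mem_zpowers_of_commute hC ?_)
    have h1 : s * x * s⁻¹ * x⁻¹ ∈ Subgroup.zpowers x :=
      mul_mem ((Subgroup.mem_normalizer_iff.mp hs x).mp (Subgroup.mem_zpowers x))
        (inv_mem (Subgroup.mem_zpowers x))
    have h2 : s * x * s⁻¹ * x⁻¹ ∈ S := by
      rw [show s * x * s⁻¹ * x⁻¹ = s * (x * s⁻¹ * x⁻¹) by group]
      exact mul_mem hsS (hS.conj_mem _ (inv_mem hsS) x)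
    have h3 := SelfCentral.eq_one_of_commute hp hx hC hdvd h2 h1
    show s * x = x * s
    calc s * x = (s * x * s⁻¹ * x⁻¹) * (x * s) := by group
      _ = x * s := by rw [h3, one_mul]
  let f : N →* G ⧸ S := (QuotientGroup.mk' S).comp N.subtype
  have hf : Function.Injective f := by
    rw [injective_iff_map_eq_one]
    intro n hn
    exact Subtype.ext (hker n n.2 ((QuotientGroup.eq_one_iff (n : G)).mp hn))
  have hcard : Nat.card N = Nat.card (G ⧸ S) := by
    refine Nat.eq_of_mul_eq_mul_right (Nat.card_pos (α := S)) ?_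
    rw [← Subgroup.card_eq_card_quotient_mul_card_subgroup, ← N.card_mul_index, hk]
  have hsurj : Function.Surjective f := ((Nat.bijective_iff_injective_and_card f).mpr ⟨hf, hcard⟩).2
  set q := QuotientGroup.mk' S
  have hle : commutator G ≤ ((Subgroup.zpowers x).map q).comap q := by
    rw [commutator_def, Subgroup.commutator_le]
    intro a _ b _
    obtain ⟨m, hm⟩ := hsurj (q a)
    obtain ⟨n, hn⟩ := hsurj (q b)
    rw [Subgroup.mem_comap, map_commutatorElement, ← hm, ← hn]
    show ⁅q (m : G), q (n : G)⁆ ∈ _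
    rw [← map_commutatorElement]
    exact Subgroup.mem_map_of_mem q (SelfCentral.normalizer_comm hC m.2 n.2)
  rw [hperf] at hle
  refine htop (top_le_iff.mp (hperf ▸ ?_))
  rw [commutator_def, Subgroup.commutator_le]
  intro a _ b _
  rw [← QuotientGroup.eq_one_iff]
  show q ⁅a, b⁆ = 1
  obtain ⟨a', ha', ea⟩ := hle (Subgroup.mem_top a)
  obtain ⟨b', hb', eb⟩ := hle (Subgroup.mem_top b)
  rw [map_commutatorElement, ← ea, ← eb, commutatorElement_eq_one_iff_commute]
  obtain ⟨i, rfl⟩ := Subgroup.mem_zpowers_iff.mp ha'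
  obtain ⟨j, rfl⟩ := Subgroup.mem_zpowers_iff.mp hb'
  exact ((Commute.refl x).zpow_zpow i j).map q

end Cfsg.Agent.Lib.FirstPower.PerfectFew
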