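import Cfsg.Agent.Lib.FirstPower.PerfectFew.Finish
import Cfsg.Agent.Lib.FirstPower.PerfectFew.Simple
import Cfsg.Agent.Lib.Zassenhaus.AbelianCases
import Cfsg.Agent.Lib.Linear.Order
import Cfsg.Agent.Lib.Fusion.EAField

/-!
# Recognition of the two configurations
-/

namespace Cfsg.Agent.Lib.FirstPower.PerfectFew

open Periods Average Consequences
open Family (pow_eq_one_of_order)
open MulAction

universe u

variable {p : ℕ} [Fact p.Prime] {G : Type u} [Group G] [Fintype G] {x : G} {hx : orderOf x = p}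
variable {P : Sylow p G} (c : Comp hx)
variable (hC : Subgroup.centralizer ({x} : Set G) = Subgroup.zpowers x)
variable (hP : (P : Subgroup G) = Subgroup.zpowers x)

include hC in
theorem Comp.card_group : Nat.card G = Nat.card (Sylow p G) * (c.e * p) := by
  rw [card_sylow_eq_index hx hC, ← c.card_normalizer hC, Subgroup.index_mul_card]

set_option maxHeartbeats 1000000 in
include hC hP in
/-- `p + 1` Sylow subgroups. -/
theorem Comp.psl_self [IsSimpleGroup G] (hp2 : p = 2 * c.e + 1)
    (hn : Nat.card (Sylow p G) = p + 1) (he : 2 ≤ c.e) :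
    ∃ (F : Type) (_ : Field F) (_ : Fintype F), Fintype.card F = p ∧
      Nonempty (G ≃* Matrix.ProjectiveSpecialLinearGroup (Fin 2) F) := by
  classical
  have hp : p.Prime := Fact.out
  have hxp := pow_eq_one_of_order hx
  have := Fintype.ofFinite (Sylow p G)
  have hGcard : Nat.card G = (p + 1) * (c.e * p) := by rw [c.card_group hC, hn]
  have hcardS : Fintype.card (Sylow p G) = p + 1 := by rw [← Nat.card_eq_fintype_card, hn]
  -- `⟨x⟩` is regular off `P`
  have hinj : ∀ Q : Sylow p G, Q ≠ P →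
      Function.Injective fun a : ZMod p => x ^ a.val • Q := by
    intro Q hQ a b h
    simp only at h
    by_contra hab
    have h1 : x ^ (a - b).val • Q = Q := by
      have e : x ^ b.val * x ^ (a - b).val = x ^ a.val := by
        rw [← pow_val_add hxp, add_sub_cancel]
      rw [← e, mul_smul] at h
      exact smul_left_cancel _ h
    exact hQ (eq_P_of_smul hP hx (sub_ne_zero.mpr hab) h1)
  have hreg : ∀ Q : Sylow p G, Q ≠ P → ∀ R : Sylow p G, R ≠ P →
      ∃! a : ZMod p, x ^ a.val • Q = R := by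
    intro Q hQ R hR
    have hne : ∀ a : ZMod p, x ^ a.val • Q ≠ P := fun a h =>
      hQ (smul_left_cancel (x ^ a.val) (h.trans (pow_smul_P hP _).symm))
    have hb : Function.Bijective
        (fun a : ZMod p => (⟨x ^ a.val • Q, hne a⟩ : {S : Sylow p G // S ≠ P})) := by
      rw [Fintype.bijective_iff_injective_and_card]
      refine ⟨fun a b h => hinj Q hQ (congrArg Subtype.val h), ?_⟩
      rw [ZMod.card, Fintype.card_subtype_compl, Fintype.card_subtype_eq, hcardS,
        Nat.add_sub_cancel]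
    obtain ⟨a, ha⟩ := hb.2 ⟨R, hR⟩
    exact ⟨a, congrArg Subtype.val ha,
      fun b hb' => hinj Q hQ (hb'.trans (congrArg Subtype.val ha).symm)⟩
  obtain ⟨Q, hQ⟩ := Fintype.exists_ne_of_one_lt_card
    (by rw [hcardS]; have := hp.pos; omega) P
  have hfaith : FaithfulSMul G (Sylow p G) := by
    refine ⟨fun {g h} hgh => ?_⟩
    rcases IsSimpleGroup.eq_bot_or_eq_top_of_normal (MulAction.toPermHom G (Sylow p G)).ker
      inferInstance with hk | hk
    · exact (MonoidHom.ker_eq_bot_iff _).mp hk (Equiv.ext hgh)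
    · have h1 : x ∈ (MulAction.toPermHom G (Sylow p G)).ker := hk ▸ Subgroup.mem_top x
      rw [MonoidHom.mem_ker] at h1
      refine absurd ?_ hQ
      refine eq_P_of_smul hP hx (one_ne_zero (α := ZMod p)) ?_
      rw [pow_val_one hxp]
      exact Equiv.congr_fun h1 Q
  have h2t : IsMultiplyPretransitive G (Sylow p G) 2 := by
    rw [is_two_pretransitive_iff]
    intro a b a' b' hab hab'
    obtain ⟨g, hg⟩ := exists_smul_eq G a P
    obtain ⟨g', hg'⟩ := exists_smul_eq G a' P
    obtain ⟨m, hm, -⟩ := hreg (g • b) (fun h => hab (smul_left_cancel g (hg.trans h.symm)))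
      (g' • b') (fun h => hab' (smul_left_cancel g' (hg'.trans h.symm)))
    refine ⟨g'⁻¹ * x ^ m.val * g, ?_, ?_⟩
    · rw [mul_smul, mul_smul, hg, pow_smul_P hP, ← hg', inv_smul_smul]
    · rw [mul_smul, mul_smul, hm, inv_smul_smul]
  have hthree : ∀ g : G, ∀ a b d : Sylow p G, a ≠ b → b ≠ d → a ≠ d →
      g • a = a → g • b = b → g • d = d → g = 1 := by
    intro g a b d hab hbd had hga hgb hgd
    obtain ⟨h, hh⟩ := exists_smul_eq G a P
    have hfix : ∀ R : Sylow p G, g • R = R → (h * g * h⁻¹) • (h • R) = h • R := fun R hR => by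
      rw [mul_smul, mul_smul, inv_smul_smul, hR]
    have hP' : (h * g * h⁻¹) • P = P := hh ▸ hfix a hga
    obtain ⟨i, k, hk, hik⟩ := c.exists_elem hC ((smul_P_iff hP).mp hP')
    by_cases hk0 : c.e ∣ k
    · rw [c.pow_g_eq_one.mpr hk0, mul_one] at hik
      by_cases hi : i = 0
      · rw [hi, ZMod.val_zero, pow_zero, conj_eq_one_iff] at hik
        exact hik
      · have := hfix b hgb
        rw [hik] at this
        exact absurd (smul_left_cancel h ((eq_P_of_smul hP hx hi this).trans hh.symm)) hab.symm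
    · exfalso
      obtain ⟨j, hj⟩ := c.exists_conj hk0 i
      set s := x ^ j.val with hs
      have hg' : ∀ R : Sylow p G, g • R = R → c.g ^ k • (s⁻¹ • h • R) = s⁻¹ • h • R := by
        intro R hR
        have h1 := hfix R hR
        rw [hik, ← hj, mul_smul, mul_smul, smul_eq_iff_eq_inv_smul] at h1
        exact h1
      have hle := c.card_fixed_le hC hP (r := 1) (by rw [hn, one_mul]) hk0
      let f : Fin 3 → fixedBy (Sylow p G) (c.g ^ k) :=
        ![⟨_, hg' a hga⟩, ⟨_, hg' b hgb⟩, ⟨_, hg' d hgd⟩]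
      have hf : Function.Injective f := by
        intro u v huv
        fin_cases u <;> fin_cases v <;>
          simp [f, Subtype.ext_iff, hab, hbd, had, hab.symm, hbd.symm, had.symm] at huv ⊢
      have := Nat.card_le_card_of_injective f hf
      rw [Nat.card_fin] at this
      omega
  have hpair : ∃ g : G, g ≠ 1 ∧ ∃ a b : Sylow p G, a ≠ b ∧ g • a = a ∧ g • b = b := by
    set N := Subgroup.normalizer (Subgroup.zpowers x : Set G) with hN
    obtain ⟨n, m, hne, hnm⟩ : ∃ n m : N, n ≠ m ∧ (n : G) • Q = (m : G) • Q := by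
      by_contra hall
      push Not at hall
      have h := Nat.card_le_card_of_injective
        (fun n : N => (⟨(n : G) • Q, fun h => hQ (smul_left_cancel (n : G)
          (h.trans ((smul_P_iff hP).mpr n.2).symm))⟩ : {S : Sylow p G // S ≠ P}))
        (fun n m h => by
          by_contra hne
          exact hall n m hne (congrArg Subtype.val h))
      rw [hN, c.card_normalizer hC, Nat.card_eq_fintype_card, Fintype.card_subtype_compl,
        Fintype.card_subtype_eq, hcardS, Nat.add_sub_cancel] at h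
      have := Nat.mul_le_mul_right p he
      have := hp.pos
      omega
    refine ⟨(m : G)⁻¹ * n, fun h => hne (Subtype.ext (inv_mul_eq_one.mp h).symm), P, Q,
      hQ.symm, ?_, ?_⟩
    · rw [mul_smul, (smul_P_iff hP).mpr n.2, inv_smul_eq_iff, (smul_P_iff hP).mpr m.2]
    · rw [mul_smul, hnm, inv_smul_smul]
  have hZ : Cfsg.IsZassenhausGroup G (Sylow p G) := by
    refine ⟨hfaith, h2t, hthree, hpair, fun N hN htr => ⟨P, fun hbot => ?_⟩⟩
    rcases IsSimpleGroup.eq_bot_or_eq_top_of_normal N hN with h | h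
    · obtain ⟨⟨g, hg⟩, hgQ⟩ := htr.exists_smul_eq P Q
      rw [h, Subgroup.mem_bot] at hg
      subst hg
      exact hQ ((one_smul G P).symm.trans hgQ).symm
    · have hxN : (⟨x, h ▸ Subgroup.mem_top x⟩ : N) ∈ stabilizer N P := by
        rw [mem_stabilizer_iff]
        exact (smul_P_iff hP).mpr (Subgroup.le_normalizer (Subgroup.mem_zpowers x))
      rw [hbot, Subgroup.mem_bot] at hxN
      exact hp.ne_one (by rw [← hx, show x = 1 from congrArg Subtype.val hxN, orderOf_one])
  have hU : Zassenhaus.AbKernel P Q (Subgroup.zpowers x) := by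
    refine ⟨fun y hy => (smul_P_iff hP).mpr (Subgroup.le_normalizer hy),
      fun g hg y hy => (Subgroup.mem_normalizer_iff.mp ((smul_P_iff hP).mp hg) y).mp hy,
      fun y hy z hz => ?_, fun R hR => ?_⟩
    · obtain ⟨i, rfl⟩ := Subgroup.mem_zpowers_iff.mp hy
      obtain ⟨j, rfl⟩ := Subgroup.mem_zpowers_iff.mp hz
      exact ((Commute.refl x).zpow_zpow i j).eq
    · obtain ⟨a, ha, huniq⟩ := hreg Q hQ R hR
      refine ⟨⟨x ^ a.val, pow_mem (Subgroup.mem_zpowers x) _⟩, ha, ?_⟩
      rintro ⟨y, hy⟩ hyR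
      obtain ⟨b, hb⟩ := (mem_zpowers_iff_val hxp).mp hy
      exact Subtype.ext (by
        simp only at hyR ⊢
        rw [← hb] at hyR ⊢
        rw [huniq b hyR])
  rcases Zassenhaus.sharp_or_psl hZ hQ.symm hU with ⟨h3, hstab⟩ | ⟨K, _, _, hchar, ⟨i⟩⟩
  · exfalso
    have t : Fin 3 ↪ Sylow p G := Classical.choice
      (Function.Embedding.nonempty_of_card_le (by
        rw [Fintype.card_fin, hcardS]; have := hp.two_le; omega))
    haveI : IsPretransitive G (Fin 3 ↪ Sylow p G) := h3
    have h := index_stabilizer_of_transitive G t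
    rw [hstab t, Subgroup.index_bot, Nat.card_eq_fintype_card (α := Fin 3 ↪ Sylow p G),
      Fintype.card_embedding_eq, hcardS, Fintype.card_fin, hGcard] at h
    simp only [Nat.descFactorial_succ, Nat.descFactorial_zero, mul_one, Nat.sub_zero,
      Nat.add_sub_cancel] at h
    rw [show p + 1 - 2 = 2 * c.e by omega] at h
    have h1 : 0 < (p + 1) * (c.e * p) :=
      Nat.mul_pos p.succ_pos (Nat.mul_pos c.e_pos hp.pos)
    nlinarith
  · refine ⟨K, inferInstance, inferInstance, ?_, ⟨i⟩⟩
    have hodd : Odd (Fintype.card K) :=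
      Nat.odd_iff.mpr (FiniteField.odd_card_of_char_ne_two hchar)
    have h := Linear.two_mul_card_PSL_two_of_odd hodd
    rw [← Nat.card_congr i.toEquiv, hGcard] at h
    obtain ⟨j, hj⟩ := hodd
    rw [hj, Nat.add_sub_cancel] at h
    rw [hj]
    rcases lt_trichotomy j c.e with hlt | heq | hgt
    · have := Nat.mul_lt_mul_of_lt_of_lt
        (Nat.mul_lt_mul_of_lt_of_lt (show 2 * j + 1 < p by omega) (show 2 * j < 2 * c.e by omega))
        (show 2 * j + 1 + 1 < p + 1 by omega)
      nlinarith
    · omega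
    · have := Nat.mul_lt_mul_of_lt_of_lt
        (Nat.mul_lt_mul_of_lt_of_lt (show p < 2 * j + 1 by omega) (show 2 * c.e < 2 * j by omega))
        (show p + 1 < 2 * j + 1 + 1 by omega)
      nlinarith

omit [Fact p.Prime] in
/-- Involution centralizers elementary abelian of order `p - 1`. -/
theorem psl_pred [IsSimpleGroup G] (hx : orderOf x = p) {g : G} (hg : orderOf g = 2) (hp5 : 5 ≤ p)
    (hcard : Nat.card (Subgroup.centralizer ({g} : Set G)) = p - 1)
    (hexp : ∀ m ∈ Subgroup.centralizer ({g} : Set G), m * m = 1)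
    (hconj : ∀ i : G, orderOf i = 2 → IsConj g i) :
    ∃ (m : ℕ) (F : Type) (_ : Field F) (_ : Fintype F), Fintype.card F = 2 ^ m ∧ p = 2 ^ m + 1 ∧
      Nonempty (G ≃* Matrix.ProjectiveSpecialLinearGroup (Fin 2) F) := by
  classical
  haveI := Fact.mk Nat.prime_two
  set C := Subgroup.centralizer ({g} : Set G) with hCdef
  have hP2 : IsPGroup 2 C := fun m => ⟨1, Subtype.ext (by
    rw [Subgroup.coe_pow, pow_one, pow_two, Subgroup.coe_one]; exact hexp m m.2)⟩
  obtain ⟨m, hm⟩ := hP2.exists_card_eq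
  obtain ⟨T, hT⟩ := hP2.exists_le_sylow
  have hCi : ∀ i : G, orderOf i = 2 → ∃ h : G,
      ∀ y ∈ Subgroup.centralizer ({i} : Set G), h⁻¹ * y * h ∈ C := by
    intro i hi
    obtain ⟨h, hh⟩ := isConj_iff.mp (hconj i hi)
    refine ⟨h, fun y hy => ?_⟩
    rw [Subgroup.mem_centralizer_singleton_iff, ← hh] at hy
    rw [hCdef, Subgroup.mem_centralizer_singleton_iff]
    calc h⁻¹ * y * h * g = h⁻¹ * (y * (h * g * h⁻¹)) * h := by group
      _ = g * (h⁻¹ * y * h) := by rw [hy]; group
  have hgC : g ∈ C := Subgroup.mem_centralizer_singleton_iff.mpr rfl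
  have hne : Nontrivial (T : Subgroup G) := ⟨⟨g, hT hgC⟩, 1, fun h => by
    rw [show g = 1 from congrArg Subtype.val h, orderOf_one] at hg; omega⟩
  haveI := T.2.center_nontrivial
  obtain ⟨n, hn⟩ := (T.2.to_subgroup (Subgroup.center (T : Subgroup G))).exists_card_eq
  have hdvd : 2 ∣ Nat.card (Subgroup.center (T : Subgroup G)) := by
    rw [hn]
    refine dvd_pow_self 2 ?_
    rintro rfl
    exact (Finite.one_lt_card (α := Subgroup.center (T : Subgroup G))).ne' hn
  obtain ⟨i, hi⟩ := exists_prime_orderOf_dvd_card' 2 hdvd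
  have hi' : orderOf ((i : (T : Subgroup G)) : G) = 2 := by
    rw [Subgroup.orderOf_coe, Subgroup.orderOf_coe, hi]
  obtain ⟨h, hh⟩ := hCi _ hi'
  have hTC : (T : Subgroup G) = C := by
    refine (Subgroup.eq_of_le_of_card_ge hT ?_).symm
    refine Nat.card_le_card_of_injective
      (fun y : (T : Subgroup G) => (⟨h⁻¹ * y * h, hh y ?_⟩ : C)) ?_
    · rw [Subgroup.mem_centralizer_singleton_iff]
      exact congrArg Subtype.val (Subgroup.mem_center_iff.mp i.2 y)
    · intro y z hyz
      exact Subtype.ext (mul_left_cancel (mul_right_cancel (congrArg Subtype.val hyz)))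
  have hTcard : Nat.card (T : Subgroup G) = p - 1 := by rw [hTC, hcard]
  have hEA : Fusion.EACentralizers.EAHyp T := by
    refine ⟨fun hcyc => ?_, fun hN => ?_, fun t ht => ?_⟩
    · obtain ⟨y, hy⟩ := hcyc.exists_generator
      have h2 : orderOf y ∣ 2 := orderOf_dvd_of_pow_eq_one (Subtype.ext (by
        rw [Subgroup.coe_pow, pow_two, Subgroup.coe_one]; exact hexp y (hTC.le y.2)))
      rw [orderOf_eq_card_of_forall_mem_zpowers hy, hTcard] at h2
      have := Nat.le_of_dvd two_pos h2
      omega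
    · rcases IsSimpleGroup.eq_bot_or_eq_top_of_normal _ hN with h' | h'
      · rw [h', Subgroup.card_bot] at hTcard; omega
      · rw [h', Subgroup.card_top] at hTcard
        have h1 : orderOf x ∣ Nat.card G := orderOf_dvd_natCard x
        rw [hx, hTcard] at h1
        have := Nat.le_of_dvd (by omega) h1
        omega
    · obtain ⟨h', hh'⟩ := hCi t ht
      have hsq : ∀ y ∈ Subgroup.centralizer ({t} : Set G), y * y = 1 := by
        intro y hy
        have := hexp _ (hh' y hy)
        calc y * y = h' * ((h'⁻¹ * y * h') * (h'⁻¹ * y * h')) * h'⁻¹ := by group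
          _ = 1 := by rw [this]; group
      refine ⟨⟨⟨fun a b => Subtype.ext ?_⟩⟩, fun y hy => by rw [pow_two]; exact hsq y hy⟩
      have ha := inv_eq_of_mul_eq_one_right (hsq a a.2)
      have hb := inv_eq_of_mul_eq_one_right (hsq b b.2)
      have hab := inv_eq_of_mul_eq_one_right (hsq _ (mul_mem a.2 b.2))
      rw [mul_inv_rev, ha, hb] at hab
      exact hab.symm
  obtain ⟨F, fF, ffF, hF, hiso⟩ := hEA.nonempty_mulEquiv_psl
  refine ⟨m, F, fF, ffF, ?_, ?_, hiso⟩
  · rw [hF, ← hm, ← hTC]
  · rw [← hm, hcard]; omega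

end Cfsg.Agent.Lib.FirstPower.PerfectFew
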