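import Cfsg.Agent.Lib.FirstPower.PerfectFew.Formula
import Cfsg.Agent.Lib.FirstPower.SmallDegree.VPart
import Cfsg.Agent.Lib.FirstPower.SmallDegree.CentralParity
import Cfsg.Agent.Lib.FirstPower.Large
import Cfsg.Agent.Lib.Cores.Basic
import Cfsg.Agent.Lib.Supersolvable.Basic

/-!
# A perfect group without `p'`-core whose Sylow number has no intermediate factor

The subgroups of order `p` are self-centralizing.
-/

namespace Cfsg.Agent.Lib.FirstPower.PerfectFew

open Periods Average Consequences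
open Cfsg.Agent.Lib Cfsg.Agent.Lib.Characters.Basic
open Family (pow_eq_one_of_order)
open CharOrbit (IsVPart)

universe u

variable {p : ℕ} [Fact p.Prime] {G : Type u} [Group G] [Finite G] {x : G}

/-- A perfect group without `p'`-core has no normal subgroup of order `p`. -/
theorem not_normal_of_perfect (hperf : commutator G = ⊤)
    (hx : orderOf x = p)
    (P : Sylow p G) (hP : (P : Subgroup G) = Subgroup.zpowers x) : ¬ (P : Subgroup G).Normal := by
  intro hN
  haveI := hN
  have hp : p.Prime := Fact.out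
  haveI : IsCyclic (P : Subgroup G) :=
    isCyclic_of_prime_card (p := p) (by rw [hP, Nat.card_zpowers, hx])
  have hcent : Subgroup.normalizer ((P : Subgroup G) : Set G) ≤
      Subgroup.centralizer ((P : Subgroup G) : Set G) :=
    le_trans (hperf ▸ le_top) (Supersolvable.commutator_le_centralizer (P : Subgroup G))
  haveI : IsMulCommutative (P : Subgroup G) := IsCyclic.isMulCommutative
  letI : CommGroup (P : Subgroup G) :=
    { (inferInstance : Group (P : Subgroup G)) with mul_comm := fun a b => mul_comm' a b }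
  have hker : commutator G ≤ (MonoidHom.transferSylow P hcent).ker :=
    Abelianization.commutator_subset_ker _
  have h := (MonoidHom.ker_transferSylow_isComplement' P hcent).disjoint
  have hxP : x ∈ (P : Subgroup G) := hP ▸ Subgroup.mem_zpowers x
  have hx1 : x = 1 := Subgroup.mem_bot.mp (h.le_bot ⟨hker (hperf ▸ Subgroup.mem_top x), hxP⟩)
  rw [hx1, orderOf_one] at hx
  exact hp.ne_one hx.symm

/-- The centralizer does not depend on the generator. -/
theorem centralizer_pow_val (hx : orderOf x = p) (u : (ZMod p)ˣ) :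
    Subgroup.centralizer ({x ^ (u : ZMod p).val} : Set G) = Subgroup.centralizer ({x} : Set G) := by
  ext y
  simp only [Subgroup.mem_centralizer_singleton_iff]
  constructor
  · intro h
    have h' : Commute (x ^ (u : ZMod p).val) y := h.symm
    have h1 : (x ^ (u : ZMod p).val) ^ ((u⁻¹ : (ZMod p)ˣ) : ZMod p).val = x := by
      rw [← pow_val_mul (pow_eq_one_of_order hx), ← Units.val_mul, mul_inv_cancel, Units.val_one,
        pow_val_one (pow_eq_one_of_order hx)]
    exact ((h1 ▸ h'.pow_left _ : Commute x y)).eq.symm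
  · intro h
    exact ((show Commute x y from h.symm).pow_left _).eq.symm

/-- A faithful exceptional or small character makes the subgroup of order `p` self-centralizing. -/
theorem self_centralizing_of_noFactor (hperf : commutator G = ⊤)
    (hcore : Cfsg.pPrimeCore p G = ⊥) (hx : orderOf x = p) (h2 : ¬ p ^ 2 ∣ Nat.card G)
    (hF : ∀ r, Nat.card (Sylow p G) = r * p + 1 → Formula.NoFactor p r) :
    Subgroup.centralizer ({x} : Set G) = Subgroup.zpowers x := by
  classical
  have := Fintype.ofFinite G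
  have hp : p.Prime := Fact.out
  have hxp := pow_eq_one_of_order hx
  obtain ⟨V, hV⟩ := Family.exists_vpart hx h2
  -- a faithful character with `V` in the kernel suffices
  suffices h : ∃ χ : Cfsg.IrrCharacter G,
      (¬ ∀ u : (ZMod p)ˣ, (χ : G → ℂ) (x ^ (u : ZMod p).val) = (χ : G → ℂ) 1) ∧
      ∀ v ∈ V, (χ : G → ℂ) v = (χ : G → ℂ) 1 by
    obtain ⟨χ, hne, hker⟩ := h
    set K := Characters.Kernel.charKer (isCharacter_irr χ) with hK
    haveI : K.Normal := Characters.Kernel.charKer_normal _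
    have hnd : ¬ p ∣ Nat.card K := by
      intro hd
      obtain ⟨y, hy⟩ := exists_prime_orderOf_dvd_card' p hd
      have hy' : orderOf (y : G) = p := by rw [Subgroup.orderOf_coe, hy]
      obtain ⟨P, hP⟩ := Consequences.exists_sylow hx h2
      obtain ⟨Q, hQ⟩ := Consequences.exists_sylow hy' h2
      obtain ⟨g, hg⟩ := MulAction.exists_smul_eq G Q P
      have hxK : x ∈ K := by
        have hxP : x ∈ (P : Subgroup G) := hP ▸ Subgroup.mem_zpowers x
        rw [← hg] at hxP
        obtain ⟨z, hz, hzx⟩ := hxP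
        rw [← hzx]
        refine Subgroup.Normal.conj_mem inferInstance z ?_ g
        exact Subgroup.zpowers_le.mpr y.2 (hQ ▸ hz)
      exact hne fun u => (Characters.Kernel.mem_charKer _ _).mp (pow_mem hxK _)
    have hVK : V ≤ K := fun v hv => (Characters.Kernel.mem_charKer _ v).mpr (hker v hv)
    have hVbot : V = ⊥ := le_bot_iff.mp
      ((hVK.trans (Cores.le_pPrimeCore_of_not_dvd hnd)).trans hcore.le)
    refine le_antisymm (fun y hy => ?_) (Subgroup.zpowers_le.mpr
      (Subgroup.mem_centralizer_singleton_iff.mpr rfl))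
    obtain ⟨i, ⟨w, hw⟩, rfl⟩ := exists_decomp hx h2 hV hy
    rw [hVbot, Subgroup.mem_bot] at hw
    subst hw
    simp [pow_mem (Subgroup.mem_zpowers x)]
  obtain ⟨R, Y, a, δ, -, hYR, hδ, h1R, ha1, -, hR, hY, -, -, hrel⟩ := Family.exists_family hx h2 hV
  let _ := Fintype.ofFinite (autE hxp)
  let _ := Fintype.ofFinite ((ZMod p)ˣ ⧸ autE hxp)
  set e := Nat.card (autE hxp) with hedef
  set d := Cfsg.charDegree (Y 1 : G → ℂ) with hd
  set t := Nat.card ((ZMod p)ˣ ⧸ autE hxp) with htdef
  have hte : t * e = p - 1 := by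
    rw [htdef, hedef, ← Subgroup.card_eq_card_quotient_mul_card_subgroup, Nat.card_eq_fintype_card,
      ZMod.card_units]
  have he0 : 0 < e := Nat.card_pos
  have ht0 : 0 < t := Nat.card_pos
  have hep : e < p := by
    have := Nat.le_mul_of_pos_left e ht0
    have := hp.two_le
    omega
  set n := Nat.card (Sylow p G) with hn
  have hidx : (Subgroup.centralizer ({x} : Set G)).index = n * e := by
    refine Nat.eq_of_mul_eq_mul_left (Nat.card_pos (α := Subgroup.centralizer ({x} : Set G))) ?_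
    rw [Subgroup.card_mul_index, Average.card_centralizer hx h2 hV, card_eq hx h2 hV]
    ring
  have hint : ∀ (χ : Cfsg.IrrCharacter G) (u : (ZMod p)ˣ),
      IsIntegral ℤ (((n * e : ℕ) : ℂ) * (χ : G → ℂ) (x ^ (u : ZMod p).val) /
        (Cfsg.charDegree (χ : G → ℂ) : ℂ)) := by
    intro χ u
    obtain ⟨k, ρ, hρ, hχ⟩ := exists_rep χ
    haveI := hρ
    have h := Induced.Integral.isIntegral_centralCharacter ρ (x ^ (u : ZMod p).val)
    have hdim : (Module.finrank ℂ (Fin k → ℂ) : ℂ) = (Cfsg.charDegree (χ : G → ℂ) : ℂ) := by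
      rw [← DegreeBounds.Basic.charDegree_irr, ← hχ, Representation.char_one]
    rwa [hχ, hdim, centralizer_pow_val hx, hidx] at h
  have hdvd_of : ∀ (χ : Cfsg.IrrCharacter G) (s : ℤ), (s = 1 ∨ s = -1) →
      IsIntegral ℤ (((n * e : ℕ) : ℂ) * (s : ℂ) / (Cfsg.charDegree (χ : G → ℂ) : ℂ)) →
      Cfsg.charDegree (χ : G → ℂ) ∣ n * e := by
    intro χ s hs h
    have hd0 := (DegreeBounds.Basic.charDegree_pos χ).ne'
    obtain ⟨w, hw⟩ := SmallDegree.int_of_isIntegral (z := ((n * e : ℕ) : ℤ) * s) h hd0 (by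
      rw [mul_div_cancel₀ _ (Nat.cast_ne_zero.mpr hd0)]; push_cast; rfl)
    rw [div_eq_iff (Nat.cast_ne_zero.mpr hd0)] at hw
    have h' : ((n * e : ℕ) : ℤ) * s = w * (Cfsg.charDegree (χ : G → ℂ) : ℤ) := by exact_mod_cast hw
    have h'' : (Cfsg.charDegree (χ : G → ℂ) : ℤ) ∣ ((n * e : ℕ) : ℤ) := by
      refine ⟨w * s, ?_⟩
      rcases hs with rfl | rfl
      · linear_combination h'
      · linear_combination -h'
    exact Int.natCast_dvd_natCast.mp h''
  obtain ⟨r, hr⟩ : ∃ r, n = r * p + 1 := by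
    refine ⟨n / p, ?_⟩
    have h : n % p = 1 := SmallGroups.Sylow.card_sylow_mod (p := p) (G := G)
    conv_lhs => rw [← Nat.mod_add_div n p, h]
    ring
  have hF' := hF r hr
  have hYval : ∀ u : (ZMod p)ˣ, (Y 1 : G → ℂ) (x ^ (u : ZMod p).val) =
      δ * eta (autE hxp) (QuotientGroup.mk u) := fun u => by simpa using hY 1 u 1 (one_mem V)
  have hdY : d ∣ n * e := by
    refine hdvd_of (Y 1) (-δ) (by rcases hδ with h | h <;> simp [h]) ?_
    have hsum := IsIntegral.sum
      (fun q : (ZMod p)ˣ ⧸ autE hxp => ((n * e : ℕ) : ℂ) *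
        (Y 1 : G → ℂ) (x ^ ((q.out : (ZMod p)ˣ) : ZMod p).val) /
          (Cfsg.charDegree (Y 1 : G → ℂ) : ℂ))
      (s := (Finset.univ : Finset ((ZMod p)ˣ ⧸ autE hxp))) fun q _ => hint (Y 1) q.out
    rw [← Finset.sum_div, ← Finset.mul_sum,
      Finset.sum_congr rfl fun q _ => show (Y 1 : G → ℂ) (x ^ ((q.out : (ZMod p)ˣ) : ZMod p).val) =
        (δ : ℂ) * eta (autE hxp) q by rw [hYval, QuotientGroup.out_eq'],
      ← Finset.mul_sum, sum_eta] at hsum
    rw [mul_neg_one] at hsum
    rwa [Int.cast_neg]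
  have hdd : (d : ZMod p) = (δ : ZMod p) * (e : ℕ) := by
    refine degree_of_period (autE hxp) hxp (Y 1) (δ := δ) 1 fun u => ?_
    simpa using hY 1 u 1 (one_mem V)
  have hnote : n * e * t = (r * p + 1) * (p - 1) := by rw [← hte, hr]; ring
  have hdt : ((d * t : ℕ) : ZMod p) = -(δ : ZMod p) := by
    rw [Nat.cast_mul, hdd, mul_assoc, ← Nat.cast_mul, mul_comm e t, hte, Nat.cast_sub hp.one_le,
      ZMod.natCast_self, Nat.cast_one]
    ring
  -- exceptional characters of small degree
  by_cases hde : δ = 1 ∧ d = e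
  · refine ⟨Y 1, fun hall => ?_, fun v hv => SmallDegree.apply_vpart_eq_degree hx hV (Y 1)
      (δ := δ) (Or.inl hde) (fun u w hw => by simpa using hY 1 u w hw) hv⟩
    have h : ∀ q : (ZMod p)ˣ ⧸ autE hxp, eta (autE hxp) q = (e : ℂ) := fun q => by
      obtain ⟨u, rfl⟩ := QuotientGroup.mk_surjective q
      have h' := (hYval u).symm.trans (hall u)
      rw [DegreeBounds.Basic.charDegree_irr, ← hd, hde.1, hde.2, Int.cast_one, one_mul] at h'
      exact h'
    have h1 := sum_eta (E := autE hxp)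
    rw [Finset.sum_congr rfl fun q _ => h q, Finset.sum_const, nsmul_eq_mul,
      ← Nat.cast_mul] at h1
    have h2' : (((Finset.univ : Finset ((ZMod p)ˣ ⧸ autE hxp)).card * e : ℕ) : ℤ) = -1 := by
      exact_mod_cast h1
    omega
  by_cases hminus : ∃ χ ∈ R, a χ = -1 ∧ Cfsg.charDegree (χ : G → ℂ) = p - 1
  · obtain ⟨χ, hχ, haχ, hzχ⟩ := hminus
    have hval : ∀ u : (ZMod p)ˣ, ∀ v ∈ V, (χ : G → ℂ) (x ^ (u : ZMod p).val * v) = -1 :=
      fun u v hv => by rw [(hR χ hχ).2 u v hv, haχ]; simp
    refine ⟨χ, fun hall => ?_, fun v hv => Large.apply_eq_degree hx hV χ hzχ hval hv⟩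
    have h' : (-1 : ℂ) = ((p - 1 : ℕ) : ℂ) := by
      rw [← hzχ, ← DegreeBounds.Basic.charDegree_irr, ← hall 1, ← mul_one (x ^ _),
        hval 1 1 (one_mem V)]
    have h'' : ((p - 1 : ℕ) : ℤ) = -1 := by exact_mod_cast h'.symm
    omega
  exfalso
  push Not at hminus
  have hnr : ((r * p + 1 : ℕ) : ℤ) ∣ δ * d - 1 := by
    have hone : Cfsg.charDegree ((oneChar G : Cfsg.IrrCharacter G) : G → ℂ) = 1 := by
      have := DegreeBounds.Basic.charDegree_irr (oneChar G)
      rw [oneChar_apply] at this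
      exact_mod_cast this.symm
    have hrel1 : ∑ χ ∈ R, a χ * (Cfsg.charDegree (χ : G → ℂ) : ℤ) = δ * d := by
      have h := hrel 1 (by rw [orderOf_one, Nat.dvd_one]; exact hp.ne_one)
      simp only [DegreeBounds.Basic.charDegree_irr] at h
      have h' : ((∑ χ ∈ R, a χ * (Cfsg.charDegree (χ : G → ℂ) : ℤ) : ℤ) : ℂ) =
          ((δ * d : ℤ) : ℂ) := by
        push_cast; exact h
      exact_mod_cast h'
    rw [← hrel1, ← Finset.add_sum_erase _ _ h1R, ha1, hone, Nat.cast_one, mul_one,
      add_sub_cancel_left]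
    refine Finset.dvd_sum fun χ hχ' => Dvd.dvd.mul_left (Int.natCast_dvd_natCast.mpr ?_) _
    obtain ⟨hne, hχ⟩ := Finset.mem_erase.mp hχ'
    have hz1 : Cfsg.charDegree (χ : G → ℂ) ≠ 1 := fun h =>
      hne (charDegree_eq_one_of_perfect hperf χ h)
    have hval : ∀ u : (ZMod p)ˣ, (χ : G → ℂ) (x ^ (u : ZMod p).val) = a χ := fun u => by
      simpa using (hR χ hχ).2 u 1 (one_mem V)
    have hz : Cfsg.charDegree (χ : G → ℂ) ∣ (r * p + 1) * (p - 1) := by
      rw [← hnote]
      exact Dvd.dvd.mul_right (hdvd_of χ (a χ) (hR χ hχ).1 (hval 1 ▸ hint χ 1)) _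
    have hmod := degree_of_const hxp χ hval
    rcases (hR χ hχ).1 with haχ | haχ
    · rw [haχ, Int.cast_one] at hmod
      rw [(Formula.dvd_plus hF' hmod hz).resolve_left hz1]
    · rw [haχ, Int.cast_neg, Int.cast_one] at hmod
      rw [(Formula.dvd_minus hF' hmod hz).resolve_left (hminus χ hχ haχ)]
      exact dvd_mul_right _ _
  have hdtd : d * t ∣ (r * p + 1) * (p - 1) := hnote ▸ Nat.mul_dvd_mul_right hdY t
  have hd0 : 0 < d := DegreeBounds.Basic.charDegree_pos _
  have hd1 : d ≠ 1 := fun h => hYR 1 (by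
    rw [charDegree_eq_one_of_perfect hperf (Y 1) h]; exact h1R)
  have hrp : 2 ≤ r * p + 1 := by
    rcases Nat.eq_zero_or_pos r with h | h
    · exfalso
      obtain ⟨P, hP⟩ := Consequences.exists_sylow hx h2
      have h1 : Nat.card (Sylow p G) = 1 := by rw [← hn, hr, h, zero_mul]
      haveI : Subsingleton (Sylow p G) := (Nat.card_eq_one_iff_unique.mp h1).1
      haveI : (P : Subgroup G).Normal := P.normal_of_subsingleton
      exact not_normal_of_perfect hperf hx P hP inferInstance
    · have := Nat.mul_le_mul h hp.two_le; omega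
  have hkey : ((r * p + 1 : ℕ) : ℤ) ∣ 1 ∨ d ∣ 1 := by
    rcases hδ with rfl | rfl
    · rw [Int.cast_one] at hdt
      rcases Formula.dvd_minus hF' hdt hdtd with h | h
      · exact absurd ⟨rfl, Nat.eq_of_mul_eq_mul_right ht0 (by rw [h, ← hte, mul_comm])⟩ hde
      · refine Or.inl ?_
        have hdeq : d = (r * p + 1) * e :=
          Nat.eq_of_mul_eq_mul_right ht0 (by rw [h, ← hte]; ring)
        have := dvd_sub (show ((r * p + 1 : ℕ) : ℤ) ∣ (1 : ℤ) * d from
          ⟨(e : ℤ), by rw [hdeq]; push_cast; ring⟩) hnr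
        rwa [sub_sub_cancel] at this
    · rw [Int.cast_neg, Int.cast_one, neg_neg] at hdt
      rcases Formula.dvd_plus hF' hdt hdtd with h | h
      · exact absurd (Nat.eq_one_of_mul_eq_one_right h) hd1
      · refine Or.inr (Int.natCast_dvd_natCast.mp ?_)
        have := dvd_sub (Dvd.dvd.mul_left (dvd_refl (d : ℤ)) (-1))
          ((Int.natCast_dvd_natCast.mpr (h ▸ dvd_mul_right d t)).trans hnr)
        rwa [sub_sub_cancel] at this
  rcases hkey with h | h
  · have := Int.le_of_dvd one_pos h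
    omega
  · exact hd1 (Nat.dvd_one.mp h)

end Cfsg.Agent.Lib.FirstPower.PerfectFew
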